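/-
Dihedral Sylow 2-subgroups: centralisers of rotations and principal block sums on their sections.
-/
import Cfsg.Agent.S0947
import Cfsg.Agent.Lib.Fusion.Dihedral
import Cfsg.Agent.Lib.Blocks.Orthogonality
import Cfsg.Agent.Lib.Blocks.LocalRing
import Cfsg.Agent.Lib.Cores.Basic
import Cfsg.Agent.Lib.Characters.Basic

set_option autoImplicit false

namespace Cfsg.Agent.Lib.DihedralBlock.Sections

open Subgroup Cfsg.Agent.Lib.Fusion Cfsg.Agent.Lib.Characters.Basic
open scoped ComplexConjugate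

universe u

variable {G : Type u} [Group G]

/-- `σ` generates the rotations of the dihedral Sylow 2-subgroup `P`. -/
structure Rot (P : Sylow 2 G) (N : ℕ) (σ : G) : Prop where
  four_le : 4 ≤ N
  four_dvd : 4 ∣ N
  mem : σ ∈ (P : Subgroup G)
  order : orderOf σ = N
  card : Nat.card (P : Subgroup G) = 2 * N
  inverts : ∀ p ∈ (P : Subgroup G), p ∉ zpowers σ → p * p = 1 ∧ p * σ * p⁻¹ = σ⁻¹
  prod_mem : ∀ p ∈ (P : Subgroup G), ∀ q ∈ (P : Subgroup G), p ∉ zpowers σ → q ∉ zpowers σ →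
    p * q ∈ zpowers σ
  odd_centralizes : ∀ R : Subgroup G, R ≤ P → ¬ Dihedral.IsFour R → ∀ n ∈ normalizer (R : Set G),
    Odd (orderOf n) → ∀ x ∈ R, n * x = x * n

variable [Finite G] {P : Sylow 2 G} {N : ℕ} {σ : G}

/-- An element of order `N` of a dihedral Sylow 2-subgroup of order `2 N` generates the rotations. -/
theorem rot_of_equiv (e : (P : Subgroup G) ≃* DihedralGroup N) (h4 : 4 ≤ N) (hd : 4 ∣ N)
    (hσ : σ ∈ (P : Subgroup G)) (ho : orderOf σ = N) : Rot P N σ := by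
  haveI : NeZero N := ⟨by omega⟩
  let D := Dihedral.Coords.ofEquiv e
  have hσr : σ ∈ D.rot := by
    by_contra h
    have h2 : orderOf σ ∣ 2 :=
      orderOf_dvd_of_pow_eq_one (by rw [pow_two]; exact D.sq_of_notMem_rot hσ h)
    have := Nat.le_of_dvd (by norm_num) h2
    omega
  have hz : zpowers σ = D.rot := by
    refine Subgroup.eq_of_le_of_card_ge (zpowers_le.2 hσr) ?_
    unfold Dihedral.Coords.rot
    rw [Nat.card_zpowers, Nat.card_zpowers, ho, orderOf_injective D.φ D.inj,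
      DihedralGroup.orderOf_r_one]
  refine ⟨h4, hd, hσ, ho, D.card, fun p hp hpn => ?_, fun p hp q hq hpn hqn => ?_,
    fun R hR hf n hn ho => D.odd_centralizes hR hf hn ho⟩
  · rw [hz] at hpn
    refine ⟨D.sq_of_notMem_rot hp hpn, ?_⟩
    have hpi : p⁻¹ = p := inv_eq_of_mul_eq_one_right (D.sq_of_notMem_rot hp hpn)
    have hps : p * σ ∉ D.rot := fun h => hpn (by
      simpa using (mul_mem h (inv_mem hσr)))
    have h1 := D.sq_of_notMem_rot (mul_mem hp hσ) hps
    rw [hpi]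
    exact eq_inv_of_mul_eq_one_left (by simpa [mul_assoc] using h1)
  · rw [hz] at hpn hqn ⊢
    exact D.mul_mem_rot hp hq hpn hqn

theorem Rot.neZero (hR : Rot P N σ) : NeZero N := ⟨by have := hR.four_le; omega⟩

theorem Rot.zpowers_le (hR : Rot P N σ) : zpowers σ ≤ (P : Subgroup G) :=
  Subgroup.zpowers_le.2 hR.mem

theorem Rot.conj_pm (hR : Rot P N σ) {p y : G} (hp : p ∈ (P : Subgroup G)) (hy : y ∈ zpowers σ) :
    p * y * p⁻¹ = y ∨ p * y * p⁻¹ = y⁻¹ := by
  obtain ⟨k, rfl⟩ := mem_zpowers_iff.1 hy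
  by_cases hpz : p ∈ zpowers σ
  · obtain ⟨j, rfl⟩ := mem_zpowers_iff.1 hpz
    left
    rw [((Commute.refl σ).zpow_zpow j k).eq, mul_inv_cancel_right]
  · right
    rw [← conj_zpow, (hR.inverts p hp hpz).2, inv_zpow]

theorem Rot.mem_of_sq (hR : Rot P N σ) {y : G} (hy : y ∈ (P : Subgroup G)) (h : y * y ≠ 1) :
    y ∈ zpowers σ := by
  by_contra hn
  exact h (hR.inverts y hy hn).1

theorem Rot.centralizer_le (hR : Rot P N σ) {p y : G} (hp : p ∈ (P : Subgroup G))
    (hy : y ∈ zpowers σ) (h : y * y ≠ 1) (hc : p * y = y * p) : p ∈ zpowers σ := by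
  by_contra hn
  obtain ⟨k, rfl⟩ := mem_zpowers_iff.1 hy
  have h1 : p * σ ^ k * p⁻¹ = (σ ^ k)⁻¹ := by rw [← conj_zpow, (hR.inverts p hp hn).2, inv_zpow]
  rw [hc, mul_inv_cancel_right] at h1
  exact h (eq_inv_iff_mul_eq_one.1 h1)

/-- Conjugate a 2-subgroup into `P`. -/
theorem exists_conj_le {A : Subgroup G} (hA : IsPGroup 2 A) (P : Sylow 2 G) :
    ∃ c : G, ∀ a ∈ A, c * a * c⁻¹ ∈ (P : Subgroup G) := by
  haveI : Fact (Nat.Prime 2) := ⟨Nat.prime_two⟩
  obtain ⟨Q, hQ⟩ := hA.exists_le_sylow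
  obtain ⟨c, hc⟩ := MulAction.exists_smul_eq G Q P
  refine ⟨c, fun a ha => ?_⟩
  rw [← hc, Sylow.coe_subgroup_smul]
  simpa using Subgroup.smul_mem_pointwise_smul (a := MulAut.conj c) a (Q : Subgroup G) (hQ ha)

omit [Finite G] in
/-- Elements of the cyclic group `⟨σ⟩` of equal order generate the same subgroup. -/
theorem mem_zpowers_of_order {y w : G} (hy : y ∈ zpowers σ) (hw : w ∈ zpowers σ)
    (ho : orderOf y = orderOf w) (hf : IsOfFinOrder σ) : w ∈ zpowers y := by
  obtain ⟨i, rfl⟩ := hf.mem_powers_iff_mem_zpowers.2 hy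
  obtain ⟨j, rfl⟩ := hf.mem_powers_iff_mem_zpowers.2 hw
  simp only [orderOf_pow' , hf.orderOf_pow] at ho ⊢
  have hN := hf.orderOf_pos
  have hgi := Nat.gcd_dvd_left (orderOf σ) i
  have hgj := Nat.gcd_dvd_left (orderOf σ) j
  have hg : (orderOf σ).gcd i = (orderOf σ).gcd j := by
    have h1 := Nat.div_mul_cancel hgi
    have h2 := Nat.div_mul_cancel hgj
    rw [ho] at h1
    have hp : 0 < orderOf σ / (orderOf σ).gcd j :=
      Nat.div_pos (Nat.le_of_dvd hN hgj) (Nat.gcd_pos_of_pos_left _ hN)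
    exact Nat.eq_of_mul_eq_mul_left hp (h1.trans h2.symm)
  obtain ⟨c, hc⟩ := (hg ▸ Nat.gcd_dvd_right (orderOf σ) j : (orderOf σ).gcd i ∣ j)
  have hgm : σ ^ (orderOf σ).gcd i ∈ zpowers (σ ^ i) := by
    refine ⟨Nat.gcdB (orderOf σ) i, ?_⟩
    show (σ ^ i) ^ _ = _
    rw [← zpow_natCast σ ((orderOf σ).gcd i), Nat.gcd_eq_gcd_ab, zpow_add, zpow_mul, zpow_mul,
      zpow_natCast, zpow_natCast, pow_orderOf_eq_one, one_zpow, one_mul]
  rw [hc, pow_mul]
  exact pow_mem hgm c

/-- Fusion of rotations of order at least four. -/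
theorem Rot.isConj_pm (hR : Rot P N σ) {y w : G} (hy : y ∈ zpowers σ) (hw : w ∈ zpowers σ)
    (h : y * y ≠ 1) (hc : IsConj y w) : w = y ∨ w = y⁻¹ := by
  haveI : Fact (Nat.Prime 2) := ⟨Nat.prime_two⟩
  obtain ⟨c, rfl⟩ := isConj_iff.1 hc
  have ho : orderOf (c * y * c⁻¹) = orderOf y := MulEquiv.orderOf_eq (MulAut.conj c) y
  have hwy := mem_zpowers_of_order hy hw ho.symm (isOfFinOrder_of_finite σ)
  have hcN : c ∈ normalizer (zpowers y : Set G) := by
    have hmap : (zpowers y).map (MulAut.conj c).toMonoidHom = zpowers y := by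
      rw [MonoidHom.map_zpowers]
      refine Subgroup.eq_of_le_of_card_ge (Subgroup.zpowers_le.2 hwy) ?_
      rw [Nat.card_zpowers, Nat.card_zpowers]
      exact ho.symm.le
    rw [mem_normalizer_iff]
    intro x
    conv_rhs => rw [← hmap]
    exact (Subgroup.mem_map_iff_mem (f := (MulAut.conj c).toMonoidHom) (MulAut.conj c).injective).symm
  obtain ⟨u, hu⟩ := Cfsg.Agent.Lib.Blocks.exists_isPPart Nat.prime_two c
  have huz := Cfsg.Agent.Lib.BrauerMap.PrincipalSection.isPPart_mem_zpowers Nat.prime_two hu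
  obtain ⟨v, huv, -, ⟨a, ha⟩, hv⟩ := hu
  have huN : u ∈ normalizer (zpowers y : Set G) := (Subgroup.zpowers_le.2 hcN) huz
  have hvN : v ∈ normalizer (zpowers y : Set G) := by
    have : v = u⁻¹ * c := by rw [← huv, inv_mul_cancel_left]
    rw [this]
    exact mul_mem (inv_mem huN) hcN
  obtain ⟨b, hb⟩ : ∃ b, orderOf y = 2 ^ b := by
    obtain ⟨j, hj⟩ := P.2.exists_card_eq
    obtain ⟨i, -, hi⟩ := (Nat.dvd_prime_pow Nat.prime_two).1
      (show orderOf y ∣ 2 ^ j from hj ▸ orderOf_dvd_natCard _ (hR.zpowers_le hy))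
    exact ⟨i, hi⟩
  have hvy : v * y = y * v := Control.commute_of_normalizes_cyclic hb
    (Nat.odd_iff.2 (Nat.two_dvd_ne_zero.1 hv))
    ((mem_normalizer_iff.1 hvN y).1 (mem_zpowers y))
  have hcu : c * y * c⁻¹ = u * y * u⁻¹ := by
    rw [← huv]
    calc u * v * y * (u * v)⁻¹ = u * (v * y) * v⁻¹ * u⁻¹ := by group
      _ = _ := by rw [hvy]; group
  rw [hcu]
  have hy2 : IsPGroup 2 (zpowers y) := IsPGroup.of_card (n := b) (by rw [Nat.card_zpowers, hb])
  have hu2 : IsPGroup 2 (zpowers u) := IsPGroup.of_card (n := a) (by rw [Nat.card_zpowers, ha])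
  obtain ⟨d, hd⟩ := exists_conj_le (hy2.to_sup_of_normal_left' hu2 (Subgroup.zpowers_le.2 huN)) P
  have hyP := hd y (le_sup_left (α := Subgroup G) (mem_zpowers y))
  have huP := hd u (le_sup_right (α := Subgroup G) (mem_zpowers u))
  have hy'z := hR.mem_of_sq hyP (fun e => h (by
    have := congrArg (fun z => d⁻¹ * z * d) e
    simpa [mul_assoc] using this))
  rcases hR.conj_pm huP hy'z with e | e
  · left
    have := congrArg (fun z => d⁻¹ * z * d) e
    simpa [mul_assoc] using this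
  · right
    have := congrArg (fun z => d⁻¹ * z * d) e
    simpa [mul_assoc] using this

/-- A normal 2-complement from the automisers. -/
theorem complement_of {H : Type u} [Group H] [Finite H] (Q : Sylow 2 H)
    (hb : ∀ R : Subgroup H, R ≤ Q → ∀ n ∈ normalizer (R : Set H), Odd (orderOf n) →
      ∀ x ∈ R, n * x = x * n) :
    (∃ k : ℕ, (Cfsg.pPrimeCore 2 H).index = 2 ^ k) ∧
      2 ^ (Nat.card H).factorization 2 = Nat.card (Q : Subgroup H) := by
  haveI : Fact (Nat.Prime 2) := ⟨Nat.prime_two⟩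
  refine ⟨?_, Q.card_eq_multiplicity.symm⟩
  obtain ⟨Q', K, hK, hc⟩ := Control.hasNormalPComplement Q fun R hR n hn ho =>
    hb R hR.1 n hn (Nat.coprime_two_right.1 ho)
  have hodd : ¬ 2 ∣ Nat.card K := by
    rw [← hc.index_eq_card]
    exact Q'.not_dvd_index
  obtain ⟨j, hj⟩ := Q'.2.exists_card_eq
  have hidx : K.index = 2 ^ j := hc.symm.index_eq_card.trans hj
  have hle : K ≤ Cfsg.pPrimeCore 2 H := Cfsg.Agent.Lib.Cores.le_pPrimeCore_of_not_dvd hodd
  obtain ⟨k, -, hk⟩ := (Nat.dvd_prime_pow Nat.prime_two).1 (hidx ▸ Subgroup.index_dvd_of_le hle)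
  exact ⟨k, hk⟩

/-- The centraliser of a rotation of order at least four. -/
theorem Rot.complement (hR : Rot P N σ) {y : G} (hy : y ∈ zpowers σ) (h : y * y ≠ 1) :
    (∃ k : ℕ, (Cfsg.pPrimeCore 2 ↥(centralizer ({y} : Set G))).index = 2 ^ k) ∧
      2 ^ (Nat.card ↥(centralizer ({y} : Set G))).factorization 2 = N := by
  haveI : Fact (Nat.Prime 2) := ⟨Nat.prime_two⟩
  set C := centralizer ({y} : Set G) with hC
  let Q : Sylow 2 C := default
  let yC : C := ⟨y, mem_centralizer_singleton_iff.2 rfl⟩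
  have hcomm : ∀ w : C, (w : G) * y = y * w := fun w => mem_centralizer_singleton_iff.1 w.2
  obtain ⟨b, hb⟩ : ∃ b, orderOf y = 2 ^ b := by
    obtain ⟨j, hj⟩ := P.2.exists_card_eq
    obtain ⟨i, -, hi⟩ := (Nat.dvd_prime_pow Nat.prime_two).1
      (show orderOf y ∣ 2 ^ j from hj ▸ orderOf_dvd_natCard _ (hR.zpowers_le hy))
    exact ⟨i, hi⟩
  have hyQ : yC ∈ (Q : Subgroup C) := by
    have hn : (zpowers yC).Normal := ⟨fun a ha g => by
      obtain ⟨k, rfl⟩ := mem_zpowers_iff.1 ha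
      have hg : Commute g yC := Subtype.ext (hcomm g)
      rw [(hg.zpow_right k).eq, mul_inv_cancel_right]
      exact zpow_mem (mem_zpowers _) k⟩
    have hp : IsPGroup 2 (zpowers yC) :=
      IsPGroup.of_card (n := b) (by rw [Nat.card_zpowers, ← Subgroup.orderOf_coe, hb])
    exact (Cfsg.Agent.Lib.Cores.le_pCore hp).trans (Cfsg.Agent.Lib.Cores.pCore_le_sylow Q)
      (mem_zpowers yC)
  -- `Q` is cyclic of order `N`
  obtain ⟨c, hc⟩ := exists_conj_le (Q.2.map C.subtype) P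
  have hy' := hc y ⟨yC, hyQ, rfl⟩
  have hy'2 : c * y * c⁻¹ * (c * y * c⁻¹) ≠ 1 := fun e => h (by
    have := congrArg (fun z => c⁻¹ * z * c) e
    simpa [mul_assoc] using this)
  have hle : ((Q : Subgroup C).map C.subtype).map (MulAut.conj c).toMonoidHom ≤ zpowers σ := by
    rintro _ ⟨_, ⟨q, hq, rfl⟩, rfl⟩
    refine hR.centralizer_le (hc q ⟨q, hq, rfl⟩) (hR.mem_of_sq hy' hy'2) hy'2 ?_
    show c * (q : G) * c⁻¹ * (c * y * c⁻¹) = c * y * c⁻¹ * (c * (q : G) * c⁻¹)
    calc c * q * c⁻¹ * (c * y * c⁻¹) = c * (q * y) * c⁻¹ := by group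
      _ = c * (y * q) * c⁻¹ := by rw [hcomm q]
      _ = _ := by group
  have hQcard : Nat.card (Q : Subgroup C) = N := by
    refine le_antisymm ?_ ?_
    · have := Subgroup.card_le_of_le hle
      rw [Subgroup.card_map_of_injective (MulAut.conj c).injective,
        Subgroup.card_map_of_injective Subtype.val_injective, Nat.card_zpowers, hR.order] at this
      exact this
    · have hσC : zpowers σ ≤ C := Subgroup.zpowers_le.2 (mem_centralizer_singleton_iff.2 (by
        obtain ⟨k, rfl⟩ := mem_zpowers_iff.1 hy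
        exact (Commute.self_zpow σ k).eq))
      obtain ⟨j, hj⟩ := P.2.exists_card_eq
      obtain ⟨i, -, hi⟩ := (Nat.dvd_prime_pow Nat.prime_two).1
        (show orderOf σ ∣ 2 ^ j from hj ▸ orderOf_dvd_natCard _ hR.mem)
      have hp : IsPGroup 2 ((zpowers σ).subgroupOf C) := IsPGroup.of_card (n := i) (by
        rw [Nat.card_congr (Subgroup.subgroupOfEquivOfLe hσC).toEquiv, Nat.card_zpowers, hi])
      obtain ⟨Q₀, hQ₀⟩ := hp.exists_le_sylow
      have h1 : Nat.card ((zpowers σ).subgroupOf C) ≤ Nat.card (Q₀ : Subgroup C) :=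
        Subgroup.card_le_of_le hQ₀
      rw [Nat.card_congr (Subgroup.subgroupOfEquivOfLe hσC).toEquiv, Nat.card_zpowers,
        hR.order] at h1
      have h2 : Nat.card (Q : Subgroup C) = Nat.card (Q₀ : Subgroup C) := by
        rw [Q.card_eq_multiplicity, Q₀.card_eq_multiplicity]
      omega
  have hcyc : ∀ R : Subgroup C, R ≤ Q → IsCyclic R := by
    intro R hRQ
    let f : R →* zpowers σ :=
      ((MulAut.conj c).toMonoidHom.comp (C.subtype.comp R.subtype)).codRestrict (zpowers σ)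
        fun r => hle ⟨_, ⟨(r : C), hRQ r.2, rfl⟩, rfl⟩
    exact isCyclic_of_injective f fun a b e => Subtype.ext (Subtype.ext
      ((MulAut.conj c).injective (congrArg Subtype.val e)))
  obtain ⟨h1, h2⟩ := complement_of Q fun R hRQ n hn ho x hx => by
    obtain ⟨w, hw⟩ := (hcyc R hRQ).exists_generator
    obtain ⟨i, hi⟩ := Q.2.exists_card_eq
    obtain ⟨j, -, hj⟩ := (Nat.dvd_prime_pow Nat.prime_two).1
      (show orderOf (w : C) ∣ 2 ^ i from hi ▸ orderOf_dvd_natCard _ (hRQ w.2))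
    have hgen : ∀ z ∈ R, z ∈ zpowers (w : C) := fun z hz => by
      obtain ⟨k, hk⟩ := mem_zpowers_iff.1 (hw ⟨z, hz⟩)
      exact ⟨k, by simpa using congrArg Subtype.val hk⟩
    have hnw : Commute n (w : C) := Control.commute_of_normalizes_cyclic hj ho
      (hgen _ ((mem_normalizer_iff.1 hn (w : C)).1 w.2))
    obtain ⟨k, rfl⟩ := mem_zpowers_iff.1 (hgen x hx)
    exact (hnw.zpow_right k).eq
  exact ⟨h1, h2.trans hQcard⟩

theorem Rot.half_sq (hR : Rot P N σ) : σ ^ (N / 2) * σ ^ (N / 2) = 1 := by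
  have := hR.four_dvd
  rw [← pow_add, show N / 2 + N / 2 = N by omega, ← hR.order, pow_orderOf_eq_one]

theorem Rot.half_ne (hR : Rot P N σ) : σ ^ (N / 2) ≠ 1 := by
  have := hR.four_le
  exact pow_ne_one_of_lt_orderOf (by omega) (by rw [hR.order]; omega)

theorem Rot.orderOf_half (hR : Rot P N σ) : orderOf (σ ^ (N / 2)) = 2 :=
  orderOf_eq_prime (by rw [pow_two]; exact hR.half_sq) hR.half_ne

theorem Rot.eq_half (hR : Rot P N σ) {y : G} (hy : y ∈ zpowers σ) (h1 : y ≠ 1) (h : y * y = 1) :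
    y = σ ^ (N / 2) := by
  obtain ⟨i, rfl⟩ := (isOfFinOrder_of_finite σ).mem_powers_iff_mem_zpowers.2 hy
  simp only at h h1 ⊢
  rw [← pow_mod_orderOf, hR.order] at h1 h ⊢
  have hlt : i % N < N := Nat.mod_lt _ (by have := hR.four_le; omega)
  rw [← pow_add, ← orderOf_dvd_iff_pow_eq_one, hR.order] at h
  have hne : i % N ≠ 0 := fun e => h1 (by rw [e, pow_zero])
  obtain ⟨t, ht⟩ := h
  have : t = 1 := by
    rcases t with _ | _ | t
    · omega
    · rfl
    · nlinarith
  congr 1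
  rw [this] at ht
  omega

theorem Rot.le_centralizer_half (hR : Rot P N σ) :
    (P : Subgroup G) ≤ centralizer ({σ ^ (N / 2)} : Set G) := by
  intro p hp
  rw [mem_centralizer_singleton_iff]
  rcases hR.conj_pm hp (pow_mem (mem_zpowers σ) (N / 2)) with e | e
  · exact mul_inv_eq_iff_eq_mul.1 e
  · rw [inv_eq_of_mul_eq_one_right hR.half_sq] at e
    exact mul_inv_eq_iff_eq_mul.1 e

theorem Rot.half_mem_four (hR : Rot P N σ) {R : Subgroup G} (hRP : R ≤ P)
    (hf : Dihedral.IsFour R) : σ ^ (N / 2) ∈ R := by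
  have hR1 : R ≠ ⊥ := fun e => by
    have := hf.1
    rw [e, Subgroup.card_bot] at this
    omega
  obtain ⟨p, hp, hp1⟩ : ∃ p ∈ R, p ≠ 1 := by
    by_contra hn
    push Not at hn
    exact hR1 ((Subgroup.eq_bot_iff_forall R).2 hn)
  by_cases hpz : p ∈ zpowers σ
  · exact hR.eq_half hpz hp1 (hf.2 p hp) ▸ hp
  obtain ⟨q, hq, hq1, hqp⟩ : ∃ q ∈ R, q ≠ 1 ∧ q ≠ p := by
    by_contra hn
    push Not at hn
    have hsub : (R : Set G) ⊆ {1, p} := fun x hx => by
      by_cases h1 : x = 1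
      · exact Or.inl h1
      · exact Or.inr (hn x hx h1)
    have := Set.ncard_le_ncard hsub (Set.toFinite _)
    rw [← Nat.card_coe_set_eq, Set.ncard_pair hp1.symm] at this
    have := hf.1
    simp only [SetLike.coe_sort_coe] at *
    omega
  by_cases hqz : q ∈ zpowers σ
  · exact hR.eq_half hqz hq1 (hf.2 q hq) ▸ hq
  refine hR.eq_half (hR.prod_mem p (hRP hp) q (hRP hq) hpz hqz) (fun e => hqp ?_)
    (hf.2 _ (mul_mem hp hq)) ▸ mul_mem hp hq
  exact (inv_eq_of_mul_eq_one_right e).symm.trans (inv_eq_of_mul_eq_one_right (hf.2 p hp))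

/-- The centraliser of the central involution. -/
theorem Rot.complement_half (hR : Rot P N σ) :
    (∃ k : ℕ, (Cfsg.pPrimeCore 2 ↥(centralizer ({σ ^ (N / 2)} : Set G))).index = 2 ^ k) ∧
      2 ^ (Nat.card ↥(centralizer ({σ ^ (N / 2)} : Set G))).factorization 2 = 2 * N := by
  haveI : Fact (Nat.Prime 2) := ⟨Nat.prime_two⟩
  set J := σ ^ (N / 2) with hJ
  set C := centralizer ({J} : Set G) with hC
  set Q : Sylow 2 C := P.subtype hR.le_centralizer_half with hQ
  have hQmem : ∀ a : C, a ∈ (Q : Subgroup C) ↔ (a : G) ∈ (P : Subgroup G) := by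
    intro a
    rw [hQ, Sylow.coe_subtype]
    rfl
  have hcard : Nat.card (Q : Subgroup C) = 2 * N := by
    rw [hQ, Sylow.coe_subtype,
      Nat.card_congr (Subgroup.subgroupOfEquivOfLe hR.le_centralizer_half).toEquiv, hR.card]
  obtain ⟨h1, h2⟩ := complement_of Q fun R hRQ n hn ho x hx => by
    set R' := R.map C.subtype with hR'
    have hR'P : R' ≤ (P : Subgroup G) := by
      rintro _ ⟨a, ha, rfl⟩
      exact (hQmem a).1 (hRQ ha)
    have hnR' : ∀ z ∈ R', (n : G) * z * (n : G)⁻¹ ∈ R' := by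
      rintro _ ⟨a, ha, rfl⟩
      exact ⟨n * a * n⁻¹, (mem_normalizer_iff.1 hn a).1 ha, rfl⟩
    have hnN : (n : G) ∈ normalizer (R' : Set G) := by
      rw [mem_normalizer_iff]
      refine fun z => ⟨hnR' z, fun hz => ?_⟩
      obtain ⟨a, ha, hae⟩ := hz
      refine ⟨n⁻¹ * a * n, (mem_normalizer_iff.1 hn _).2 (by simpa [mul_assoc] using ha), ?_⟩
      have hae' : (a : G) = (n : G) * z * (n : G)⁻¹ := hae
      show ((n : G))⁻¹ * (a : G) * n = z
      rw [hae']
      group
    have ho' : Odd (orderOf (n : G)) := by rwa [Subgroup.orderOf_coe]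
    have hxR' : (x : G) ∈ R' := ⟨x, hx, rfl⟩
    refine Subtype.ext ?_
    show (n : G) * x = x * n
    by_cases hf : Dihedral.IsFour R'
    · have hJR := hR.half_mem_four hR'P hf
      have hnJ : (n : G) * J * (n : G)⁻¹ = J := by
        rw [mem_centralizer_singleton_iff.1 n.2, mul_inv_cancel_right]
      rcases eq_or_ne (x : G) 1 with h1 | h1
      · rw [h1, mul_one, one_mul]
      rcases eq_or_ne (x : G) J with h3 | h3
      · rw [h3]; exact mem_centralizer_singleton_iff.1 n.2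
      set y := (n : G) * x * (n : G)⁻¹ with hy
      have hyR := hnR' _ hxR'
      have hy1 : y ≠ 1 := fun e => h1 (conj_eq_one_iff.1 e)
      have hyJ : y ≠ J := fun e => h3 (by
        have h' : (n : G) * x * (n : G)⁻¹ = n * J * (n : G)⁻¹ := e.trans hnJ.symm
        exact mul_left_cancel (mul_right_cancel h'))
      have hcases : y = x ∨ y = J * x := by
        have hset : (R' : Set G) = {1, J, (x : G), J * x} := by
          refine (Set.eq_of_subset_of_ncard_le ?_ ?_ (Set.toFinite _)).symm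
          · intro z hz
            simp only [Set.mem_insert_iff, Set.mem_singleton_iff] at hz
            rcases hz with rfl | rfl | rfl | rfl
            exacts [one_mem _, hJR, hxR', mul_mem hJR hxR']
          · rw [← Nat.card_coe_set_eq]
            have hJ1 : J ≠ 1 := hR.half_ne
            have hJx : J * x ≠ 1 := fun e => h3 ((inv_eq_of_mul_eq_one_right e).symm.trans
              (inv_eq_of_mul_eq_one_right (hf.2 J hJR)))
            rw [Set.ncard_insert_of_notMem (by simp [hJ1.symm, Ne.symm h1, hJx.symm]),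
              Set.ncard_insert_of_notMem (by simp [Ne.symm h3, h1]),
              Set.ncard_pair (fun e => hJ1 (right_eq_mul.1 e))]
            exact hf.1.le
        have := hset.le hyR
        simp only [Set.mem_insert_iff, Set.mem_singleton_iff] at this
        tauto
      rcases hcases with e | e
      · exact mul_inv_eq_iff_eq_mul.1 e
      · have hn2 : Commute ((n : G) ^ 2) x := by
          refine mul_inv_eq_iff_eq_mul.1 ?_
          calc (n : G) ^ 2 * x * ((n : G) ^ 2)⁻¹ = n * ((n : G) * x * (n : G)⁻¹) * (n : G)⁻¹ := by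
                rw [pow_two]; group
            _ = (n : G) * (J * x) * (n : G)⁻¹ := by rw [← hy, e]
            _ = ((n : G) * J * (n : G)⁻¹) * ((n : G) * x * (n : G)⁻¹) := by group
            _ = J * (J * x) := by rw [hnJ, ← hy, e]
            _ = x := by rw [← mul_assoc, hf.2 J hJR, one_mul]
        obtain ⟨m, hm⟩ := exists_pow_eq_self_of_coprime (n := 2) (Nat.coprime_two_left.2 ho')
        have := (hn2.pow_left m).eq
        rwa [hm] at this
    · exact hR.odd_centralizes R' hR'P hf _ hnN ho' _ hxR'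
  exact ⟨h1, h2.trans hcard⟩

variable (M : Ideal Cfsg.AlgInt)

/-- The norm sum at a 2-element whose centraliser has a normal 2-complement. -/
theorem sum_self (hM : Cfsg.IsPModular 2 M) {z : G} (hz : ∃ k, orderOf z = 2 ^ k) (hz1 : z ≠ 1)
    {d : ℕ}
    (h : (∃ k : ℕ, (Cfsg.pPrimeCore 2 ↥(centralizer ({z} : Set G))).index = 2 ^ k) ∧
      2 ^ (Nat.card ↥(centralizer ({z} : Set G))).factorization 2 = d) :
    ∑ᶠ χ ∈ Cfsg.principalBlock M G, (χ : G → ℂ) z * conj ((χ : G → ℂ) z) = (d : ℂ) := by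
  haveI : Fact (Nat.Prime 2) := ⟨Nat.prime_two⟩
  have := (Cfsg.Agent.S0947.result 2 M hM z hz hz1 1 (by simp)).2 h.1
  rw [h.2, OneMemClass.coe_one, mul_one] at this
  rw [← Complex.ofReal_natCast, ← this]
  rw [finsum_mem_eq_finite_toFinset_sum _ (Set.toFinite _),
    finsum_mem_eq_finite_toFinset_sum _ (Set.toFinite _), Complex.ofReal_sum]
  refine Finset.sum_congr rfl fun χ _ => ?_
  rw [Complex.mul_conj, Complex.sq_norm]

/-- Orthogonality of non-conjugate 2-elements. -/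
theorem sum_ne (hM : Cfsg.IsPModular 2 M) {z w : G} (hz : ∃ k, orderOf z = 2 ^ k)
    (hw : ∃ k, orderOf w = 2 ^ k) (hne : ¬ IsConj z w) :
    ∑ᶠ χ ∈ Cfsg.principalBlock M G, (χ : G → ℂ) z * conj ((χ : G → ℂ) w) = 0 := by
  haveI := hM.2.1
  have hp : ∀ {a : G}, (∃ k, orderOf a = 2 ^ k) → Cfsg.IsPPart 2 a a := fun {a} ha =>
    ⟨1, mul_one a, Commute.one_right a, ha, by simp⟩
  rw [← Cfsg.Agent.Lib.Blocks.sum_block_eq_zero hM (hp hz) (hp hw) hne
    Cfsg.Agent.Lib.Blocks.isPBlock_principalBlock]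
  refine finsum_congr fun χ => finsum_congr fun _ => ?_
  rw [apply_inv (isCharacter_irr χ)]

theorem Rot.isPow (hR : Rot P N σ) {y : G} (hy : y ∈ zpowers σ) : ∃ k, orderOf y = 2 ^ k := by
  haveI : Fact (Nat.Prime 2) := ⟨Nat.prime_two⟩
  obtain ⟨j, hj⟩ := P.2.exists_card_eq
  obtain ⟨i, -, hi⟩ := (Nat.dvd_prime_pow Nat.prime_two).1
    (show orderOf y ∣ 2 ^ j from hj ▸ orderOf_dvd_natCard _ (hR.zpowers_le hy))
  exact ⟨i, hi⟩

theorem Rot.isConj_inv (hR : Rot P N σ) {y : G} (hy : y ∈ zpowers σ) : IsConj y y⁻¹ := by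
  obtain ⟨p, hp, hpn⟩ : ∃ p ∈ (P : Subgroup G), p ∉ zpowers σ := by
    by_contra hn
    push Not at hn
    have := Subgroup.card_le_of_le (show (P : Subgroup G) ≤ zpowers σ from hn)
    rw [hR.card, Nat.card_zpowers, hR.order] at this
    have := hR.four_le
    omega
  obtain ⟨k, rfl⟩ := mem_zpowers_iff.1 hy
  exact isConj_iff.2 ⟨p, by rw [← conj_zpow, (hR.inverts p hp hpn).2, inv_zpow]⟩

open scoped Classical in
/-- Column orthogonality on the rotations. -/
theorem Rot.sum_rot (hR : Rot P N σ) (hM : Cfsg.IsPModular 2 M) {y w : G} (hy : y ∈ zpowers σ)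
    (hw : w ∈ zpowers σ) (h : y * y ≠ 1) :
    ∑ᶠ χ ∈ Cfsg.principalBlock M G, (χ : G → ℂ) y * conj ((χ : G → ℂ) w) =
      if w = y ∨ w = y⁻¹ then (N : ℂ) else 0 := by
  have hy1 : y ≠ 1 := fun e => h (by rw [e, one_mul])
  split_ifs with hc
  · rw [← sum_self M hM (hR.isPow hy) hy1 (hR.complement hy h)]
    refine finsum_congr fun χ => finsum_congr fun _ => ?_
    rcases hc with rfl | rfl
    · rfl
    · rw [classFunction_apply_of_isConj (isClassFunction_irr χ) (hR.isConj_inv hy)]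
  · exact sum_ne M hM (hR.isPow hy) (hR.isPow hw) fun e => hc (hR.isConj_pm hy hw h e)

/-- The column of the central involution. -/
theorem Rot.sum_half (hR : Rot P N σ) (hM : Cfsg.IsPModular 2 M) :
    ∑ᶠ χ ∈ Cfsg.principalBlock M G, (χ : G → ℂ) (σ ^ (N / 2)) * conj ((χ : G → ℂ) (σ ^ (N / 2))) =
      ((2 * N : ℕ) : ℂ) :=
  sum_self M hM (hR.isPow (pow_mem (mem_zpowers σ) _)) hR.half_ne hR.complement_half

/-- The central involution vanishes on no member of the principal block. -/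
theorem Rot.half_apply_ne_zero (hR : Rot P N σ) (hM : Cfsg.IsPModular 2 M)
    {χ : Cfsg.IrrCharacter G} (hχ : χ ∈ Cfsg.principalBlock M G) :
    (χ : G → ℂ) (σ ^ (N / 2)) ≠ 0 := by
  intro h0
  haveI := hM.2.1
  haveI : Fact (Nat.Prime 2) := ⟨Nat.prime_two⟩
  have h1 := hχ (σ ^ (N / 2))
  have hidx : ¬ 2 ∣ (centralizer ({σ ^ (N / 2)} : Set G)).index := fun hd =>
    P.not_dvd_index (hd.trans (Subgroup.index_dvd_of_le hR.le_centralizer_half))
  simp only [Cfsg.centralChar, h0, zero_div, mul_zero, sub_zero, mul_one, div_one] at h1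
  exact hidx ((Cfsg.Agent.Lib.Blocks.memLocalIdeal_natCast_iff hM _).mp h1)

end Cfsg.Agent.Lib.DihedralBlock.Sections
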