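/-
Eigenvalue multiplicities of a rotation in the characters of the principal block.
-/
import Cfsg.Agent.Lib.DihedralBlock.Sections
import Cfsg.Agent.Lib.Brauer.Elementary

set_option autoImplicit false

namespace Cfsg.Agent.Lib.DihedralBlock.Fourier

open Subgroup Cfsg.Agent.Lib.Characters.Basic Cfsg.Agent.Lib.DihedralBlock.Sections
open scoped ComplexConjugate

universe u

variable {G : Type u} [Group G] {N : ℕ}

/-- The rotation with index `x`. -/
def rot (σ : G) (x : ZMod N) : G := σ ^ x.val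

theorem rot_mem (σ : G) (x : ZMod N) : rot σ x ∈ zpowers σ := pow_mem (mem_zpowers σ) _

variable [NeZero N] {σ : G}

theorem rot_natCast (hσ : orderOf σ = N) (l : ℕ) : rot σ (l : ZMod N) = σ ^ l := by
  rw [rot, ZMod.val_natCast, ← hσ, pow_mod_orderOf]

theorem rot_add (hσ : orderOf σ = N) (x y : ZMod N) : rot σ (x + y) = rot σ x * rot σ y := by
  rw [rot, rot, rot, ← pow_add, ZMod.val_add]
  have h := pow_mod_orderOf σ (x.val + y.val)
  rwa [hσ] at h

theorem rot_zero : rot σ (0 : ZMod N) = 1 := by rw [rot, ZMod.val_zero, pow_zero]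

theorem rot_injective (hσ : orderOf σ = N) : Function.Injective (rot σ : ZMod N → G) := fun x y e =>
  ZMod.val_injective N (pow_injOn_Iio_orderOf (by rw [hσ]; exact x.val_lt) (by rw [hσ]; exact y.val_lt) e)

theorem rot_neg (hσ : orderOf σ = N) (x : ZMod N) : rot σ (-x) = (rot σ x)⁻¹ :=
  eq_inv_of_mul_eq_one_left (by rw [← rot_add hσ, neg_add_cancel, rot_zero])

/-- The additive character `x ↦ ζ ^ x`. -/
noncomputable def expn {ζ : ℂ} (hζ : IsPrimitiveRoot ζ N) : AddChar (ZMod N) ℂ :=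
  AddChar.zmodChar N hζ.pow_eq_one

variable {ζ : ℂ} (hζ : IsPrimitiveRoot ζ N)

theorem expn_natCast (l : ℕ) : expn hζ (l : ZMod N) = ζ ^ l := AddChar.zmodChar_apply' _ _

theorem conj_expn (x : ZMod N) : conj (expn hζ x) = expn hζ (-x) := by
  rw [AddChar.map_neg_eq_inv, AddChar.inv_apply_eq_conj]

theorem sum_expn (b : ZMod N) : ∑ x : ZMod N, expn hζ (b * x) = if b = 0 then (N : ℂ) else 0 := by
  have h := AddChar.sum_mulShift b (AddChar.zmodChar_primitive_of_primitive_root N hζ)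
  rw [ZMod.card] at h
  simp only [mul_comm b]
  exact h.trans (by split_ifs <;> simp)

variable [Finite G]

/-- Fourier coefficients of a character on the rotations are integers. -/
theorem exists_mult (hσ : orderOf σ = N) (χ : Cfsg.IrrCharacter G) (i : ZMod N) :
    ∃ k : ℤ, ∑ x : ZMod N, (χ : G → ℂ) (rot σ x) * expn hζ (-(i * x)) = (N : ℂ) * k := by
  haveI := Fintype.ofFinite (zpowers σ)
  let ψ : Multiplicative (ZMod N) →* zpowers σ :=
    { toFun := fun x => ⟨rot σ x.toAdd, rot_mem σ _⟩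
      map_one' := Subtype.ext rot_zero
      map_mul' := fun x y => Subtype.ext (rot_add hσ _ _) }
  have hψ : Function.Bijective ψ := by
    refine ⟨fun x y e => rot_injective hσ (congrArg Subtype.val e), fun z => ?_⟩
    obtain ⟨l, hl⟩ := (isOfFinOrder_of_finite σ).mem_powers_iff_mem_zpowers.2 z.2
    exact ⟨Multiplicative.ofAdd (l : ZMod N), Subtype.ext ((rot_natCast hσ l).trans hl)⟩
  let lam : zpowers σ →* ℂ :=
    ((expn hζ).mulShift i).toMonoidHom.comp (MulEquiv.ofBijective ψ hψ).symm.toMonoidHom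
  obtain ⟨k, hk⟩ := exists_classInner_nat (isCharacter_comp (zpowers σ).subtype (isCharacter_irr χ))
    (Cfsg.Agent.Lib.Brauer.Elementary.isCharacter_hom lam)
  refine ⟨k, ?_⟩
  rw [Cfsg.classInner, Nat.card_zpowers, hσ,
    inv_mul_eq_iff_eq_mul₀ (Nat.cast_ne_zero.2 (NeZero.ne N))] at hk
  rw [Int.cast_natCast, ← hk]
  refine Fintype.sum_equiv (Multiplicative.ofAdd.trans (MulEquiv.ofBijective ψ hψ).toEquiv) _ _
    fun x => ?_
  have h1 : lam (MulEquiv.ofBijective ψ hψ (Multiplicative.ofAdd x)) = expn hζ (i * x) := by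
    show ((expn hζ).mulShift i).toMonoidHom
      ((MulEquiv.ofBijective ψ hψ).symm (MulEquiv.ofBijective ψ hψ (Multiplicative.ofAdd x))) = _
    rw [MulEquiv.symm_apply_apply]
    rfl
  show _ = (χ : G → ℂ) (rot σ x) * conj (lam (MulEquiv.ofBijective ψ hψ (Multiplicative.ofAdd x)))
  rw [h1, conj_expn]

/-- The multiplicity of the eigenvalue `ζ ^ i` of the rotation. -/
noncomputable def mult (hσ : orderOf σ = N) (χ : Cfsg.IrrCharacter G) (i : ZMod N) : ℤ :=
  (exists_mult hζ hσ χ i).choose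

theorem mult_spec (hσ : orderOf σ = N) (χ : Cfsg.IrrCharacter G) (i : ZMod N) :
    ∑ x : ZMod N, (χ : G → ℂ) (rot σ x) * expn hζ (-(i * x)) = (N : ℂ) * mult hζ hσ χ i :=
  (exists_mult hζ hσ χ i).choose_spec

/-- Fourier inversion. -/
theorem apply_rot (hσ : orderOf σ = N) (χ : Cfsg.IrrCharacter G) (x : ZMod N) :
    (χ : G → ℂ) (rot σ x) = ∑ i : ZMod N, (mult hζ hσ χ i : ℂ) * expn hζ (i * x) := by
  refine mul_left_cancel₀ (Nat.cast_ne_zero.2 (NeZero.ne N) : (N : ℂ) ≠ 0) ?_
  simp only [Finset.mul_sum, ← mul_assoc, ← mult_spec, Finset.sum_mul]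
  rw [Finset.sum_comm, Finset.sum_eq_single x]
  · simp only [mul_assoc, ← AddChar.map_add_eq_mul, neg_add_cancel, AddChar.map_zero_eq_one,
      mul_one, Finset.sum_const, Finset.card_univ, ZMod.card, nsmul_eq_mul]
  · intro y _ hy
    simp only [mul_assoc, ← AddChar.map_add_eq_mul, ← Finset.mul_sum]
    rw [Finset.sum_congr rfl (g := fun i => expn hζ ((x - y) * i)) fun i _ => by congr 1; ring,
      sum_expn, if_neg (sub_ne_zero.2 (Ne.symm hy)), mul_zero]
  · exact fun h => absurd (Finset.mem_univ x) h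

theorem mult_one (hσ : orderOf σ = N) (i : ZMod N) :
    mult hζ hσ (oneChar G) i = if i = 0 then 1 else 0 := by
  have h := mult_spec hζ hσ (oneChar G) i
  simp only [oneChar_apply, one_mul, ← neg_mul, sum_expn, neg_eq_zero] at h
  have hN : (N : ℂ) ≠ 0 := Nat.cast_ne_zero.2 (NeZero.ne N)
  split_ifs at h ⊢
  · have : ((mult hζ hσ (oneChar G) i : ℤ) : ℂ) = ((1 : ℤ) : ℂ) := by
      push_cast; exact mul_left_cancel₀ hN (by rw [mul_one]; exact h.symm)
    exact_mod_cast this
  · have : ((mult hζ hσ (oneChar G) i : ℤ) : ℂ) = ((0 : ℤ) : ℂ) := by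
      push_cast; exact mul_left_cancel₀ hN (by rw [mul_zero]; exact h.symm)
    exact_mod_cast this

variable {P : Sylow 2 G} (hR : Rot P N σ) (M : Ideal Cfsg.AlgInt) (hM : Cfsg.IsPModular 2 M)

/-- The principal block as a finite set. -/
noncomputable def blk (G : Type u) [Group G] [Finite G] (M : Ideal Cfsg.AlgInt) :
    Finset (Cfsg.IrrCharacter G) :=
  (Set.toFinite (Cfsg.principalBlock M G)).toFinset

theorem mem_blk {χ : Cfsg.IrrCharacter G} : χ ∈ blk G M ↔ χ ∈ Cfsg.principalBlock M G :=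
  Set.Finite.mem_toFinset _

include hR in
theorem add_self_eq_zero {x : ZMod N} (h : x + x = 0) : x = 0 ∨ x = ((N / 2 : ℕ) : ZMod N) :=
  Fusion.Dihedral.double_eq_zero h

/-- The kernel of a difference of two coefficients. -/
noncomputable def kern (i k x : ZMod N) : ℂ := expn hζ (-(i * x)) - expn hζ (-(k * x))

include hR in
theorem kern_eq_zero {i k x : ZMod N} (hik : i * ((N / 2 : ℕ) : ZMod N) = k * ((N / 2 : ℕ) : ZMod N))
    (h : x + x = 0) : kern hζ i k x = 0 := by
  rcases add_self_eq_zero hR h with rfl | rfl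
  · simp [kern]
  · rw [kern, hik, sub_self]

theorem diff_spec (hσ : orderOf σ = N) (χ : Cfsg.IrrCharacter G) (i k : ZMod N) :
    (N : ℂ) * ((mult hζ hσ χ i - mult hζ hσ χ k : ℤ) : ℂ) =
      ∑ x : ZMod N, (χ : G → ℂ) (rot σ x) * kern hζ i k x := by
  push_cast
  rw [mul_sub, ← mult_spec, ← mult_spec, ← Finset.sum_sub_distrib]
  simp only [kern, mul_sub]

include hR hM in
open scoped Classical in
theorem sum_rot_rot {x : ZMod N} (hx : x + x ≠ 0) (y : ZMod N) :
    ∑ χ ∈ blk G M, (χ : G → ℂ) (rot σ x) * conj ((χ : G → ℂ) (rot σ y)) =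
      if y = x ∨ y = -x then (N : ℂ) else 0 := by
  rw [blk, ← finsum_mem_eq_finite_toFinset_sum, hR.sum_rot M hM (rot_mem σ x) (rot_mem σ y)
    fun e => hx (rot_injective hR.order (by rw [rot_add hR.order, e, rot_zero]))]
  refine if_congr ?_ rfl rfl
  rw [← rot_neg hR.order, (rot_injective hR.order).eq_iff, (rot_injective hR.order).eq_iff]

include hR hM in
/-- The inner products of coefficient differences. -/
theorem inner_diff {i k i' k' : ZMod N}
    (hik : i * ((N / 2 : ℕ) : ZMod N) = k * ((N / 2 : ℕ) : ZMod N)) :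
    ∑ χ ∈ blk G M, (mult hζ hR.order χ i - mult hζ hR.order χ k) *
        (mult hζ hR.order χ i' - mult hζ hR.order χ k') =
      ((if i' = i then (1 : ℤ) else 0) - (if k' = i then 1 else 0) - (if i' = k then 1 else 0) +
        (if k' = k then 1 else 0)) + ((if i' = -i then (1 : ℤ) else 0) - (if k' = -i then 1 else 0) -
        (if i' = -k then 1 else 0) + (if k' = -k then 1 else 0)) := by
  classical
  have hN : (N : ℂ) ≠ 0 := Nat.cast_ne_zero.2 (NeZero.ne N)
  apply Int.cast_injective (α := ℂ)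
  refine mul_left_cancel₀ (mul_ne_zero hN hN) ?_
  have hexp : (N : ℂ) * N * ((∑ χ ∈ blk G M, (mult hζ hR.order χ i - mult hζ hR.order χ k) *
        (mult hζ hR.order χ i' - mult hζ hR.order χ k') : ℤ) : ℂ) =
      ∑ x : ZMod N, ∑ y : ZMod N, kern hζ i k x * conj (kern hζ i' k' y) *
        ∑ χ ∈ blk G M, (χ : G → ℂ) (rot σ x) * conj ((χ : G → ℂ) (rot σ y)) := by
    rw [Int.cast_sum, Finset.mul_sum]
    simp only [Finset.mul_sum]
    conv_rhs => enter [2, x]; rw [Finset.sum_comm]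
    rw [Finset.sum_comm]
    refine Finset.sum_congr rfl fun χ _ => ?_
    have h1 := diff_spec hζ hR.order χ i k
    have h2 : (N : ℂ) * ((mult hζ hR.order χ i' - mult hζ hR.order χ k' : ℤ) : ℂ) =
        ∑ y : ZMod N, conj ((χ : G → ℂ) (rot σ y)) * conj (kern hζ i' k' y) := by
      have h := congrArg conj (diff_spec hζ hR.order χ i' k')
      rw [map_mul, map_natCast, map_intCast, map_sum] at h
      rw [h]
      exact Finset.sum_congr rfl fun y _ => map_mul _ _ _
    rw [Int.cast_mul, mul_mul_mul_comm, h1, h2, Finset.sum_mul_sum]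
    exact Finset.sum_congr rfl fun x _ => Finset.sum_congr rfl fun y _ => by ring
  rw [hexp]
  have hrow : ∀ x : ZMod N, ∑ y : ZMod N, kern hζ i k x * conj (kern hζ i' k' y) *
        ∑ χ ∈ blk G M, (χ : G → ℂ) (rot σ x) * conj ((χ : G → ℂ) (rot σ y)) =
      (N : ℂ) * (kern hζ i k x * (kern hζ i' k' (-x) + kern hζ i' k' x)) := by
    intro x
    by_cases hx : x + x = 0
    · simp [kern_eq_zero hζ hR hik hx]
    have hne : x ≠ -x := fun e => hx (by nth_rw 2 [e]; exact add_neg_cancel x)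
    have hc : ∀ z : ZMod N, conj (kern hζ i' k' z) = kern hζ i' k' (-z) := fun z => by
      simp [kern, map_sub, conj_expn]
    simp only [sum_rot_rot hR M hM hx, mul_ite, mul_zero]
    rw [← Finset.sum_filter, show Finset.univ.filter (fun y => y = x ∨ y = -x) = {x, -x} by
      ext y; simp, Finset.sum_pair hne, hc, hc, neg_neg]
    ring
  rw [Finset.sum_congr rfl fun x _ => hrow x]
  simp only [← Finset.mul_sum, mul_add, Finset.sum_add_distrib, kern, mul_sub, sub_mul,
    ← AddChar.map_add_eq_mul, Finset.sum_sub_distrib]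
  have e1 : ∀ a b : ZMod N, ∑ x : ZMod N, expn hζ (-(a * x) + -(b * -x)) =
      if b = a then (N : ℂ) else 0 := fun a b => by
    rw [Finset.sum_congr rfl (g := fun x => expn hζ ((b - a) * x)) fun x _ => by congr 1; ring,
      sum_expn]
    simp only [sub_eq_zero]
  have e2 : ∀ a b : ZMod N, ∑ x : ZMod N, expn hζ (-(a * x) + -(b * x)) =
      if b = -a then (N : ℂ) else 0 := fun a b => by
    rw [Finset.sum_congr rfl (g := fun x => expn hζ ((-a - b) * x)) fun x _ => by congr 1; ring,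
      sum_expn]
    simp only [sub_eq_zero, eq_comm]
  simp only [e1, e2]
  push_cast
  simp only [mul_ite, mul_zero, mul_one, mul_add, mul_sub]
  ring

include hR hM in
/-- The coefficient differences are orthogonal to the elements of odd order. -/
theorem sum_diff_odd {i k : ZMod N}
    (hik : i * ((N / 2 : ℕ) : ZMod N) = k * ((N / 2 : ℕ) : ZMod N)) {ρ : G} (hρ : Odd (orderOf ρ)) :
    ∑ χ ∈ blk G M, ((mult hζ hR.order χ i - mult hζ hR.order χ k : ℤ) : ℂ) * (χ : G → ℂ) ρ = 0 := by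
  haveI := hM.2.1
  refine mul_left_cancel₀ (Nat.cast_ne_zero.2 (NeZero.ne N) : (N : ℂ) ≠ 0) ?_
  simp only [Finset.mul_sum, ← mul_assoc, diff_spec, Finset.sum_mul, mul_zero]
  rw [Finset.sum_comm]
  refine Finset.sum_eq_zero fun x _ => ?_
  by_cases hx : x = 0
  · simp [hx, kern]
  have hne : rot σ (-x) ≠ 1 := fun e => hx (neg_eq_zero.1 (rot_injective hR.order (e.trans rot_zero.symm)))
  have h2 : 2 ∣ orderOf (rot σ (-x)) := by
    obtain ⟨k, hk⟩ := hR.isPow (rot_mem σ (-x))
    rcases k with _ | k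
    · rw [pow_zero, orderOf_eq_one_iff] at hk
      exact absurd hk hne
    · exact ⟨2 ^ k, by rw [hk, pow_succ']⟩
  have h := Cfsg.Agent.Lib.Blocks.weak_orthogonality hM
    (Cfsg.Agent.Lib.Blocks.isPBlock_principalBlock (M := M) (G := G))
    (Nat.two_dvd_ne_zero.2 (Nat.odd_iff.1 hρ)) h2
  rw [finsum_mem_eq_finite_toFinset_sum _ (Set.toFinite _)] at h
  rw [blk, Finset.sum_congr rfl (g := fun χ : Cfsg.IrrCharacter G => kern hζ i k x *
    ((χ : G → ℂ) ρ * conj ((χ : G → ℂ) (rot σ (-x))))) fun χ _ => ?_, ← Finset.mul_sum, h, mul_zero]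
  rw [rot_neg hR.order, apply_inv (isCharacter_irr χ), starRingEnd_self_apply]
  ring

include hR hM in
/-- The coefficient differences are orthogonal to the central involution. -/
theorem sum_diff_half {i k : ZMod N}
    (hik : i * ((N / 2 : ℕ) : ZMod N) = k * ((N / 2 : ℕ) : ZMod N)) :
    ∑ χ ∈ blk G M, ((mult hζ hR.order χ i - mult hζ hR.order χ k : ℤ) : ℂ) *
      conj ((χ : G → ℂ) (rot σ ((N / 2 : ℕ) : ZMod N))) = 0 := by
  classical
  refine mul_left_cancel₀ (Nat.cast_ne_zero.2 (NeZero.ne N) : (N : ℂ) ≠ 0) ?_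
  simp only [Finset.mul_sum, ← mul_assoc, diff_spec, Finset.sum_mul, mul_zero]
  rw [Finset.sum_comm]
  refine Finset.sum_eq_zero fun x _ => ?_
  by_cases hx : x + x = 0
  · simp [kern_eq_zero hζ hR hik hx]
  have hh : ((N / 2 : ℕ) : ZMod N) + ((N / 2 : ℕ) : ZMod N) = 0 :=
    Fusion.Dihedral.half_add_half hR.four_dvd
  rw [Finset.sum_congr rfl (g := fun χ : Cfsg.IrrCharacter G => kern hζ i k x * ((χ : G → ℂ) (rot σ x) *
      conj ((χ : G → ℂ) (rot σ ((N / 2 : ℕ) : ZMod N))))) fun χ _ => by ring,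
    ← Finset.mul_sum, sum_rot_rot hR M hM hx, if_neg, mul_zero]
  rintro (e | e)
  · exact hx (by rw [← e, hh])
  · refine hx ?_
    rw [show x = -((N / 2 : ℕ) : ZMod N) by rw [e, neg_neg], ← neg_add, hh, neg_zero]

include hR hM in
/-- On the principal block the multiplicities are symmetric. -/
theorem mult_neg {χ : Cfsg.IrrCharacter G} (hχ : χ ∈ blk G M) (i : ZMod N) :
    mult hζ hR.order χ (-i) = mult hζ hR.order χ i := by
  have hh : ((N / 2 : ℕ) : ZMod N) + ((N / 2 : ℕ) : ZMod N) = 0 :=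
    Fusion.Dihedral.half_add_half hR.four_dvd
  have h := inner_diff hζ hR M hM (i' := i) (k' := -i) (i := i) (k := -i) (by
    rw [neg_mul, ← sub_eq_zero, sub_neg_eq_add, ← mul_add, hh, mul_zero])
  have h0 : ∑ χ ∈ blk G M, (mult hζ hR.order χ i - mult hζ hR.order χ (-i)) *
      (mult hζ hR.order χ i - mult hζ hR.order χ (-i)) = 0 := by
    rw [h]
    simp only [neg_neg, if_true, eq_comm (a := -i) (b := i)]
    split_ifs <;> norm_num
  have := (Finset.sum_eq_zero_iff_of_nonneg fun χ _ => mul_self_nonneg _).1 h0 χ hχ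
  exact (sub_eq_zero.1 (mul_self_eq_zero.1 this)).symm

omit [NeZero N] [Finite G] in
/-- Pairing `i` with `-i`. -/
theorem sum_fold {A : Type*} [AddCommMonoid A] [NeZero N] (hN : 2 ∣ N) (g : ZMod N → A) :
    ∑ x : ZMod N, g x = g 0 + g ((N / 2 : ℕ) : ZMod N) +
      ∑ i ∈ Finset.Ico 1 (N / 2), (g (i : ZMod N) + g (-(i : ZMod N))) := by
  have hN0 : 0 < N := Nat.pos_of_ne_zero (NeZero.ne N)
  have hr : ∑ x : ZMod N, g x = ∑ i ∈ Finset.range N, g (i : ZMod N) :=
    (Finset.sum_nbij' (fun i : ℕ => (i : ZMod N)) ZMod.val (fun i _ => Finset.mem_univ _)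
      (fun x _ => Finset.mem_range.2 x.val_lt)
      (fun i hi => ZMod.val_cast_of_lt (Finset.mem_range.1 hi))
      (fun x _ => ZMod.natCast_zmod_val x) fun i _ => rfl).symm
  rw [hr, Finset.range_eq_Ico, ← Finset.sum_Ico_consecutive _ (Nat.zero_le (N / 2)) (by omega),
    Finset.sum_eq_sum_Ico_succ_bot (by omega : 0 < N / 2),
    Finset.sum_eq_sum_Ico_succ_bot (by omega : N / 2 < N), Nat.cast_zero, Finset.sum_add_distrib]
  have e : ∑ i ∈ Finset.Ico (N / 2 + 1) N, g (i : ZMod N) =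
      ∑ i ∈ Finset.Ico 1 (N / 2), g (-(i : ZMod N)) := by
    refine Finset.sum_nbij' (fun i => N - i) (fun i => N - i) ?_ ?_ ?_ ?_ ?_
    · intro i hi; simp only [Finset.coe_Ico, Set.mem_Ico, Finset.mem_Ico] at hi ⊢; omega
    · intro i hi; simp only [Finset.coe_Ico, Set.mem_Ico, Finset.mem_Ico] at hi ⊢; omega
    · intro i hi; simp only [Finset.coe_Ico, Set.mem_Ico, Finset.mem_Ico] at hi; omega
    · intro i hi; simp only [Finset.coe_Ico, Set.mem_Ico, Finset.mem_Ico] at hi; omega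
    · intro i hi
      rw [Finset.mem_Ico] at hi
      rw [Nat.cast_sub (by omega), ZMod.natCast_self, zero_sub, neg_neg]
  rw [e, zero_add]
  abel

include hR hM in
/-- The folded expansion of a member of the principal block on the rotations. -/
theorem apply_rot_fold {χ : Cfsg.IrrCharacter G} (hχ : χ ∈ blk G M) (x : ZMod N) :
    (χ : G → ℂ) (rot σ x) = (mult hζ hR.order χ 0 : ℂ) +
      (mult hζ hR.order χ ((N / 2 : ℕ) : ZMod N) : ℂ) * expn hζ (((N / 2 : ℕ) : ZMod N) * x) +
      ∑ i ∈ Finset.Ico 1 (N / 2), (mult hζ hR.order χ (i : ZMod N) : ℂ) *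
        (expn hζ ((i : ZMod N) * x) + expn hζ (-((i : ZMod N) * x))) := by
  rw [apply_rot hζ hR.order, sum_fold (dvd_trans (by norm_num) hR.four_dvd)]
  congr 1
  · rw [zero_mul, AddChar.map_zero_eq_one, mul_one]
  · refine Finset.sum_congr rfl fun i _ => ?_
    rw [mult_neg hζ hR M hM hχ, neg_mul, mul_add]

end Cfsg.Agent.Lib.DihedralBlock.Fourier
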