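/-
The combinatorics of the principal 2-block of a group with dihedral Sylow 2-subgroup: integral
vectors with prescribed inner products.
-/
import Mathlib

set_option autoImplicit false

namespace Cfsg.Agent.Lib.DihedralBlock.Comb

open Finset

/-- Even classes. -/
def Ev (h : ℕ) : Finset ℕ := (Ico 1 h).filter Even

/-- Odd classes other than the first. -/
def Od (h : ℕ) : Finset ℕ := (Ico 2 h).filter Odd

theorem mem_Ev {h i : ℕ} : i ∈ Ev h ↔ (1 ≤ i ∧ i < h) ∧ Even i := by simp [Ev]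

theorem mem_Od {h i : ℕ} : i ∈ Od h ↔ (2 ≤ i ∧ i < h) ∧ Odd i := by simp [Od]

theorem card_Ev (k : ℕ) : (Ev (2 * k + 2)).card = k := by
  induction k with
  | zero => decide
  | succ k ih =>
    have e : Ev (2 * (k + 1) + 2) = insert (2 * k + 2) (Ev (2 * k + 2)) := by
      ext i
      simp only [mem_insert, mem_Ev]
      rcases Nat.even_or_odd i with he | ho
      · simp only [he, and_true]
        obtain ⟨a, rfl⟩ := he
        omega
      · have h1 : ¬ Even i := Nat.not_even_iff_odd.2 ho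
        simp only [h1, and_false, or_false, false_iff]
        rintro rfl
        exact h1 ⟨k + 1, by omega⟩
    rw [e, card_insert_of_notMem (by simp [mem_Ev]), ih]

theorem card_Od (k : ℕ) : (Od (2 * k + 2)).card = k := by
  induction k with
  | zero => decide
  | succ k ih =>
    have e : Od (2 * (k + 1) + 2) = insert (2 * k + 3) (Od (2 * k + 2)) := by
      ext i
      simp only [mem_insert, mem_Od]
      rcases Nat.even_or_odd i with he | ho
      · have h1 : ¬ Odd i := Nat.not_odd_iff_even.2 he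
        simp only [h1, and_false, or_false, false_iff]
        rintro rfl
        exact h1 ⟨k + 1, by omega⟩
      · simp only [ho, and_true]
        obtain ⟨a, rfl⟩ := ho
        omega
    rw [e, card_insert_of_notMem (by simp [mem_Od]), ih]

theorem Ico_split {h : ℕ} (hh : 2 ≤ h) : Ico 1 h = Ev h ∪ insert 1 (Od h) := by
  ext i
  simp only [mem_union, mem_insert, mem_Ev, mem_Od, mem_Ico]
  rcases Nat.even_or_odd i with he | ho
  · simp only [he, Nat.not_odd_iff_even.2 he, and_true, and_false, or_false]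
    constructor
    · exact fun hi => Or.inl hi
    · rintro (hi | rfl)
      · exact hi
      · exact absurd he (by decide)
  · simp only [ho, Nat.not_even_iff_odd.2 ho, and_true, and_false, false_or]
    omega

theorem disjoint_split (h : ℕ) : Disjoint (Ev h) (insert 1 (Od h)) := by
  rw [disjoint_left]
  intro i hi hi'
  rw [mem_Ev] at hi
  rcases mem_insert.1 hi' with rfl | hi'
  · exact absurd hi.2 (by decide)
  · exact Nat.not_even_iff_odd.2 (mem_Od.1 hi').2 hi.2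

variable {ι : Type*} [Fintype ι]

/-- The numerical data of the principal block. -/
structure Data (ι : Type*) [Fintype ι] (h : ℕ) where
  one : ι
  f : ι → ℤ
  j : ι → ℤ
  ph : ι → ℤ
  P : ℕ → ι → ℤ
  Q : ℕ → ι → ℤ
  h_pow : ∃ k, h = 2 ^ (k + 1)
  f_pos : ∀ t, 0 < f t
  f_one : f one = 1
  j_one : j one = 1
  ph_one : ph one = 1
  P_one : ∀ i ∈ Ev h, P i one = 1
  Q_one : ∀ i ∈ Od h, Q i one = 0
  ph_sq : ∑ t, ph t * ph t = 4
  P_sq : ∀ i ∈ Ev h, ∑ t, P i t * P i t = 3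
  Q_sq : ∀ i ∈ Od h, ∑ t, Q i t * Q i t = 2
  ph_P : ∀ i ∈ Ev h, ∑ t, ph t * P i t = 2
  P_P : ∀ i ∈ Ev h, ∀ l ∈ Ev h, i ≠ l → ∑ t, P i t * P l t = 2
  Q_Q : ∀ i ∈ Od h, ∀ l ∈ Od h, i ≠ l → ∑ t, Q i t * Q l t = 1
  ph_Q : ∀ i ∈ Od h, ∑ t, ph t * Q i t = 0
  P_Q : ∀ i ∈ Ev h, ∀ l ∈ Od h, ∑ t, P i t * Q l t = 0
  j_sq : ∑ t, j t * j t = 4 * h
  f_ph : ∑ t, f t * ph t = 0
  f_P : ∀ i ∈ Ev h, ∑ t, f t * P i t = 0
  f_Q : ∀ i ∈ Od h, ∑ t, f t * Q i t = 0
  f_j : ∑ t, f t * j t = 0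
  j_ph : ∑ t, j t * ph t = 0
  j_P : ∀ i ∈ Ev h, ∑ t, j t * P i t = 0
  j_Q : ∀ i ∈ Od h, ∑ t, j t * Q i t = 0
  j_ne : ∀ t, j t ≠ 0
  four : ∀ t, 4 ∣ f t - j t
  cong : ∀ t, (h : ℤ) ∣ f t + ph t + 2 * ∑ i ∈ Ev h, P i t - 2 * ∑ i ∈ Od h, Q i t

variable [DecidableEq ι] {h : ℕ} (D : Data ι h)

include D in
omit [DecidableEq ι] in
theorem Data.two_le : 2 ≤ h := by
  obtain ⟨k, hk⟩ := D.h_pow
  rw [hk, pow_succ]
  have := Nat.one_le_two_pow (n := k)
  omega

include D in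
omit [DecidableEq ι] in
theorem Data.even_h : 2 ∣ h := by
  obtain ⟨k, hk⟩ := D.h_pow
  exact ⟨2 ^ k, by rw [hk, pow_succ']⟩

include D in
omit [DecidableEq ι] in
theorem Data.four_or_eight_le (h2 : h ≠ 2) : h = 4 ∨ 8 ≤ h := by
  obtain ⟨k, hk⟩ := D.h_pow
  rcases k with _ | _ | k
  · simp at hk; omega
  · simp at hk; omega
  · right
    rw [hk, pow_succ, pow_succ, pow_succ]
    have := Nat.one_le_two_pow (n := k)
    omega

theorem mul_self_pm {x : ℤ} {m : ℤ} (hm : m < 4) (h : x * x ≤ m) : x = 0 ∨ x = 1 ∨ x = -1 := by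
  have : -2 < x ∧ x < 2 := ⟨by nlinarith, by nlinarith⟩
  omega

/-- A vector of norm two away from `one`. -/
theorem two_support {v : ι → ℤ} {one : ι} (hv : ∑ t ∈ univ.erase one, v t * v t = 2) :
    ∃ u w, u ≠ w ∧ u ≠ one ∧ w ≠ one ∧ (v u = 1 ∨ v u = -1) ∧ (v w = 1 ∨ v w = -1) ∧
      ∀ t, t ≠ one → t ≠ u → t ≠ w → v t = 0 := by
  have hpm : ∀ t ∈ univ.erase one, v t = 0 ∨ v t = 1 ∨ v t = -1 := fun t ht =>
    mul_self_pm (m := 2) (by norm_num)
      (hv ▸ single_le_sum (f := fun t => v t * v t) (fun t _ => mul_self_nonneg _) ht)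
  set S := (univ.erase one).filter fun t => v t ≠ 0 with hS
  have hcard : S.card = 2 := by
    have h1 : ∑ t ∈ S, v t * v t = 2 := by
      rw [hS, sum_filter_of_ne]
      · exact hv
      · intro t _ ht e
        exact ht (by rw [e, mul_zero])
    rw [sum_congr rfl (g := fun _ => (1 : ℤ)) fun t ht => ?_, sum_const, nsmul_one] at h1
    · exact_mod_cast h1
    · obtain ⟨h1', h2⟩ := mem_filter.1 ht
      rcases hpm t h1' with e | e | e
      · exact absurd e h2
      · rw [e]; rfl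
      · rw [e]; rfl
  obtain ⟨u, w, huw, hSe⟩ := card_eq_two.1 hcard
  have hu : u ∈ S := by simp [hSe]
  have hw : w ∈ S := by simp [hSe]
  simp only [hS, mem_filter, mem_erase, mem_univ, and_true] at hu hw
  refine ⟨u, w, huw, hu.1, hw.1, (hpm u (by simp [hu.1])).resolve_left hu.2,
    (hpm w (by simp [hw.1])).resolve_left hw.2, fun t h1 h2 h3 => ?_⟩
  by_contra h0
  have : t ∈ S := by simp [hS, h1, h0]
  simp [hSe, h2, h3] at this

theorem sum_three (g v : ι → ℤ) {one u w : ι} (huw : u ≠ w) (hu : u ≠ one) (hw : w ≠ one)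
    (hv : ∀ t, t ≠ one → t ≠ u → t ≠ w → v t = 0) :
    ∑ t, g t * v t = g one * v one + g u * v u + g w * v w := by
  rw [← sum_subset (subset_univ {one, u, w}), sum_insert (by simp [hu.symm, hw.symm]),
    sum_pair huw, add_assoc]
  intro t _ ht
  simp only [mem_insert, mem_singleton, not_or] at ht
  rw [hv t ht.1 ht.2.1 ht.2.2, mul_zero]

/-- The three characters of odd degree. -/
def Data.T : Finset ι := (univ.erase D.one).filter fun t => D.ph t ≠ 0

theorem Data.ph_pm {t : ι} (ht : t ∈ D.T) : D.ph t = 1 ∨ D.ph t = -1 := by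
  obtain ⟨h1, h2⟩ := mem_filter.1 ht
  have h3 := sum_erase_add univ (fun t => D.ph t * D.ph t) (mem_univ D.one)
  simp only [D.ph_one, mul_one, D.ph_sq] at h3
  have h4 := single_le_sum (f := fun t => D.ph t * D.ph t) (fun t _ => mul_self_nonneg _) h1
  exact (mul_self_pm (m := 3) (by norm_num) (by linarith)).resolve_left h2

theorem Data.one_notMem : D.one ∉ D.T := by simp [Data.T]

theorem Data.ph_zero {t : ι} (ht : t ∉ D.T) (h1 : t ≠ D.one) : D.ph t = 0 := by
  simpa [Data.T, h1] using ht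

theorem Data.card_T : D.T.card = 3 := by
  have h3 := sum_erase_add univ (fun t => D.ph t * D.ph t) (mem_univ D.one)
  simp only [D.ph_one, mul_one, D.ph_sq] at h3
  have h1 : ∑ t ∈ D.T, D.ph t * D.ph t = 3 := by
    rw [Data.T, sum_filter_of_ne]
    · linarith
    · intro t _ ht e
      exact ht (by rw [e, mul_zero])
  rw [sum_congr rfl (g := fun _ => (1 : ℤ)) fun t ht => ?_, sum_const, nsmul_one] at h1
  · exact_mod_cast h1
  · rcases D.ph_pm ht with e | e <;> rw [e] <;> rfl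

theorem Data.odd_f (t : ι) : (Odd (D.f t) ↔ t ∈ D.T ∨ t = D.one) ∧ (Odd (D.j t) ↔ Odd (D.f t)) := by
  obtain ⟨a, ha⟩ := dvd_trans (Int.natCast_dvd_natCast.2 D.even_h) (D.cong t)
  obtain ⟨b, hb⟩ := D.four t
  push_cast at ha
  have hph : t ∈ D.T ∨ t = D.one ↔ Odd (D.ph t) := by
    by_cases h1 : t = D.one
    · simp [h1, D.ph_one]
    by_cases ht : t ∈ D.T
    · rcases D.ph_pm ht with e | e <;> simp [ht, e]
    · simp [ht, h1, D.ph_zero ht h1]
  rw [hph, Int.odd_iff, Int.odd_iff, Int.odd_iff]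
  omega

theorem Data.one_le_sq {t : ι} (ht : t ∈ D.T) : 1 ≤ D.j t * D.j t := by
  have := D.j_ne t
  nlinarith [sq_pos_of_ne_zero (this)]

theorem Data.four_le_sq {t : ι} (ht : t ∉ D.T) (h1 : t ≠ D.one) : 4 ≤ D.j t * D.j t := by
  have h2 : ¬ Odd (D.j t) := by
    rw [(D.odd_f t).2, (D.odd_f t).1]
    tauto
  obtain ⟨a, ha⟩ := Int.not_odd_iff_even.1 h2
  have : a ≠ 0 := fun e => D.j_ne t (by rw [ha, e, add_zero])
  rw [ha]
  nlinarith [sq_pos_of_ne_zero this]

theorem Data.P_shape {i : ℕ} (hi : i ∈ Ev h) :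
    ∃ r ∈ D.T, ∃ X, X ∉ D.T ∧ X ≠ D.one ∧ (D.P i X = 1 ∨ D.P i X = -1) ∧ D.P i r = D.ph r ∧
      ∀ t, t ≠ D.one → t ≠ r → t ≠ X → D.P i t = 0 := by
  have h3 := sum_erase_add univ (fun t => D.P i t * D.P i t) (mem_univ D.one)
  simp only [D.P_one i hi, mul_one, D.P_sq i hi] at h3
  obtain ⟨u, w, huw, hu, hw, hpu, hpw, hz⟩ := two_support (v := D.P i) (one := D.one) (by linarith)
  have hs := D.ph_P i hi
  rw [sum_three D.ph (D.P i) huw hu hw hz, D.ph_one, D.P_one i hi] at hs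
  by_cases hT : u ∈ D.T <;> by_cases hT' : w ∈ D.T
  · exfalso
    rcases D.ph_pm hT with a | a <;> rcases D.ph_pm hT' with b | b <;> rcases hpu with c | c <;>
      rcases hpw with d | d <;> rw [a, b, c, d] at hs <;> omega
  · refine ⟨u, hT, w, hT', hw, hpw, ?_, hz⟩
    rw [D.ph_zero hT' hw] at hs
    rcases D.ph_pm hT with a | a <;> rcases hpu with c | c <;> rw [a, c] at hs ⊢ <;> omega
  · refine ⟨w, hT', u, hT, hu, hpu, ?_, fun t a b c => hz t a c b⟩
    rw [D.ph_zero hT hu] at hs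
    rcases D.ph_pm hT' with a | a <;> rcases hpw with c | c <;> rw [a, c] at hs ⊢ <;> omega
  · rw [D.ph_zero hT hu, D.ph_zero hT' hw] at hs
    omega

theorem Data.exists_P : ∃ r X : ℕ → ι, ∀ i ∈ Ev h, r i ∈ D.T ∧ X i ∉ D.T ∧ X i ≠ D.one ∧
    (D.P i (X i) = 1 ∨ D.P i (X i) = -1) ∧ D.P i (r i) = D.ph (r i) ∧
    (∀ t, t ≠ D.one → t ≠ r i → t ≠ X i → D.P i t = 0) ∧
    ∀ g : ι → ℤ, ∑ t, g t * D.P i t = g D.one + g (r i) * D.ph (r i) + g (X i) * D.P i (X i) := by
  have : ∀ i, ∃ r X : ι, i ∈ Ev h → r ∈ D.T ∧ X ∉ D.T ∧ X ≠ D.one ∧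
      (D.P i X = 1 ∨ D.P i X = -1) ∧ D.P i r = D.ph r ∧
      (∀ t, t ≠ D.one → t ≠ r → t ≠ X → D.P i t = 0) := by
    intro i
    by_cases hi : i ∈ Ev h
    · obtain ⟨r, hr, X, h1, h2, h3, h4, h5⟩ := D.P_shape hi
      exact ⟨r, X, fun _ => ⟨hr, h1, h2, h3, h4, h5⟩⟩
    · exact ⟨D.one, D.one, fun h => absurd h hi⟩
  choose r X hX using this
  refine ⟨r, X, fun i hi => ?_⟩
  obtain ⟨h1, h2, h3, h4, h5, h6⟩ := hX i hi
  refine ⟨h1, h2, h3, h4, h5, h6, fun g => ?_⟩
  rw [sum_three g (D.P i) (fun e : r i = X i => h2 (e ▸ h1))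
    (fun e : r i = D.one => D.one_notMem (e ▸ h1)) h3 h6,
    D.P_one i hi, mul_one, h5]

theorem Data.P_common {r X : ℕ → ι}
    (hP : ∀ i ∈ Ev h, r i ∈ D.T ∧ X i ∉ D.T ∧ X i ≠ D.one ∧
      (D.P i (X i) = 1 ∨ D.P i (X i) = -1) ∧ D.P i (r i) = D.ph (r i) ∧
      (∀ t, t ≠ D.one → t ≠ r i → t ≠ X i → D.P i t = 0) ∧
      ∀ g : ι → ℤ, ∑ t, g t * D.P i t = g D.one + g (r i) * D.ph (r i) + g (X i) * D.P i (X i))
    {i l : ℕ} (hi : i ∈ Ev h) (hl : l ∈ Ev h) (hne : i ≠ l) : r i = r l ∧ X i ≠ X l := by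
  have pair : ∀ {a b : ℕ}, a ∈ Ev h → b ∈ Ev h → a ≠ b → (r a = r b ∧ X a ≠ X b) ∨
      (r a ≠ r b ∧ X a = X b ∧ D.f (r a) * D.ph (r a) = D.f (r b) * D.ph (r b)) := by
    intro a b ha hb hab
    obtain ⟨a1, a2, a3, a4, a5, a6, a7⟩ := hP a ha
    obtain ⟨b1, b2, b3, b4, b5, b6, b7⟩ := hP b hb
    have hrX : ∀ {p q : ℕ}, p ∈ Ev h → q ∈ Ev h → r p ≠ X q := fun hp hq e =>
      (hP _ hq).2.1 (e ▸ (hP _ hp).1)
    have hs := D.P_P a ha b hb hab
    rw [show (fun t => D.P a t * D.P b t) = fun t => D.P b t * D.P a t from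
      funext fun t => mul_comm _ _] at hs
    rw [a7 (D.P b), D.P_one b hb] at hs
    have hfa := a7 D.f
    have hfb := b7 D.f
    rw [D.f_P a ha, D.f_one] at hfa
    rw [D.f_P b hb, D.f_one] at hfb
    by_cases hr : r a = r b
    · refine Or.inl ⟨hr, fun e => ?_⟩
      rw [hr, b5, e] at hs
      rw [e] at a4
      rcases D.ph_pm b1 with p | p <;> rcases a4 with q | q <;> rcases b4 with q' | q' <;>
        rw [p, q, q'] at hs <;> omega
    · have hbr : D.P b (r a) = 0 :=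
        b6 _ (fun e => D.one_notMem (e ▸ a1)) hr (hrX ha hb)
      rw [hbr] at hs
      by_cases hX : X a = X b
      · refine Or.inr ⟨hr, hX, ?_⟩
        rw [hX] at hs hfa a4
        have : D.P a (X b) = D.P b (X b) := by
          rcases a4 with q | q <;> rcases b4 with q' | q' <;> rw [q, q'] at hs ⊢ <;> omega
        rw [this] at hfa
        linarith
      · rw [b6 _ a3 (fun e => hrX hb ha e.symm) hX] at hs
        omega
  rcases pair hi hl hne with h' | ⟨hr, hX, hf⟩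
  · exact h'
  · exfalso
    obtain ⟨⟨i1, i2⟩, ie⟩ := mem_Ev.1 hi
    obtain ⟨⟨l1, l2⟩, le⟩ := mem_Ev.1 hl
    have h8 : 8 ≤ h := by
      rcases D.four_or_eight_le (by rw [Nat.even_iff] at ie; omega) with e | e
      · rw [Nat.even_iff] at ie le; omega
      · exact e
    obtain ⟨m, hm, hmi, hml⟩ : ∃ m, m ∈ Ev h ∧ m ≠ i ∧ m ≠ l := by
      have h24 : ∀ m ∈ ({2, 4, 6} : Finset ℕ), m ∈ Ev h := fun m hm => by
        simp only [mem_insert, mem_singleton] at hm
        rw [mem_Ev, Nat.even_iff]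
        omega
      by_cases a : (2 : ℕ) ≠ i ∧ 2 ≠ l
      · exact ⟨2, h24 2 (by simp), a⟩
      by_cases b : (4 : ℕ) ≠ i ∧ 4 ≠ l
      · exact ⟨4, h24 4 (by simp), b⟩
      exact ⟨6, h24 6 (by simp), by omega, by omega⟩
    have pi := pair hm hi hmi
    have pl := pair hm hl hml
    have hXm : X m = X i := by
      rcases pi with ⟨a, -⟩ | ⟨-, a, -⟩
      · rcases pl with ⟨b, -⟩ | ⟨-, b, -⟩
        · exact absurd (a.symm.trans b) hr
        · exact b.trans hX.symm
      · exact a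
    rcases pi with ⟨-, a⟩ | ⟨hmi', -, fi⟩
    · exact a hXm
    rcases pl with ⟨-, b⟩ | ⟨hml', -, -⟩
    · exact b (hXm.trans hX)
    have hTe : D.T = {r m, r i, r l} := by
      refine (eq_of_subset_of_card_le ?_ ?_).symm
      · intro t ht
        simp only [mem_insert, mem_singleton] at ht
        rcases ht with rfl | rfl | rfl
        exacts [(hP m hm).1, (hP i hi).1, (hP l hl).1]
      · rw [D.card_T, card_insert_of_notMem (by simp [hmi', hml']), card_pair hr]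
    have hsum := D.f_ph
    rw [← sum_subset (subset_univ (insert D.one D.T)) (fun t _ ht => by
        simp only [mem_insert, not_or] at ht
        rw [D.ph_zero ht.2 ht.1, mul_zero]),
      sum_insert D.one_notMem, D.f_one, D.ph_one, hTe,
      sum_insert (by simp [hmi', hml']), sum_pair hr] at hsum
    omega

theorem Data.Q_shape {i : ℕ} (hi : i ∈ Od h) :
    ∃ u w, u ≠ w ∧ u ≠ D.one ∧ w ≠ D.one ∧ D.Q i u = 1 ∧ D.Q i w = -1 ∧ D.f u = D.f w ∧
      (∀ t, t ≠ u → t ≠ w → D.Q i t = 0) ∧ ∀ g : ι → ℤ, ∑ t, g t * D.Q i t = g u - g w := by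
  have h3 := sum_erase_add univ (fun t => D.Q i t * D.Q i t) (mem_univ D.one)
  simp only [D.Q_one i hi, mul_zero, add_zero, D.Q_sq i hi] at h3
  obtain ⟨u, w, huw, hu, hw, hqu, hqw, hz⟩ := two_support (v := D.Q i) (one := D.one) h3
  have hz' : ∀ t, t ≠ u → t ≠ w → D.Q i t = 0 := fun t a b => by
    by_cases e : t = D.one
    · rw [e, D.Q_one i hi]
    · exact hz t e a b
  have hf := D.f_Q i hi
  rw [sum_three D.f (D.Q i) huw hu hw hz, D.Q_one i hi] at hf
  have := D.f_pos u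
  have := D.f_pos w
  rcases hqu with a | a <;> rcases hqw with b | b <;> rw [a, b] at hf
  · omega
  · exact ⟨u, w, huw, hu, hw, a, b, by omega, hz', fun g => by
      rw [sum_three g (D.Q i) huw hu hw hz, D.Q_one i hi, a, b]; ring⟩
  · exact ⟨w, u, huw.symm, hw, hu, b, a, by omega, fun t x y => hz' t y x, fun g => by
      rw [sum_three g (D.Q i) huw hu hw hz, D.Q_one i hi, a, b]; ring⟩
  · omega

theorem Data.Q_outside {i : ℕ} (hi : i ∈ Od h) {u w : ι} (huw : u ≠ w) (hu : u ≠ D.one)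
    (hw : w ≠ D.one) (h1 : D.Q i u = 1) (h2 : D.Q i w = -1) (hf : D.f u = D.f w)
    (hz : ∀ t, t ≠ u → t ≠ w → D.Q i t = 0)
    (hg : ∀ g : ι → ℤ, ∑ t, g t * D.Q i t = g u - g w) : u ∉ D.T ∧ w ∉ D.T := by
  have hpar : u ∈ D.T ↔ w ∈ D.T := by
    have a := (D.odd_f u).1
    have b := (D.odd_f w).1
    simp only [hu, hw, or_false] at a b
    rw [← a, ← b, hf]
  suffices u ∉ D.T from ⟨this, fun e => this (hpar.2 e)⟩
  intro huT
  have hwT := hpar.1 huT
  have hphuw : D.ph u = D.ph w := by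
    have := D.ph_Q i hi
    rw [hg D.ph] at this
    linarith
  obtain ⟨⟨i2, ilt⟩, io⟩ := mem_Od.1 hi
  rw [Nat.odd_iff] at io
  have h2E : 2 ∈ Ev h := mem_Ev.2 ⟨by omega, by decide⟩
  obtain ⟨r, hr, X, hXT, hX1, hXs, hPr, hP0⟩ := D.P_shape h2E
  have hPg : ∀ g : ι → ℤ, ∑ t, g t * D.P 2 t = g D.one + g r * D.ph r + g X * D.P 2 X := fun g => by
    rw [sum_three g (D.P 2) (fun e : r = X => hXT (e ▸ hr))
      (fun e : r = D.one => D.one_notMem (e ▸ hr)) hX1 hP0,
      D.P_one 2 h2E, mul_one, hPr]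
  have hru : r ≠ u ∧ r ≠ w := by
    have hpq := D.P_Q 2 h2E i hi
    rw [hg (D.P 2)] at hpq
    have huX : u ≠ X := fun e => hXT (e ▸ huT)
    have hwX : w ≠ X := fun e => hXT (e ▸ hwT)
    constructor
    · intro e
      rw [← e, hPr, hP0 w hw (fun e' => huw (e.symm.trans e'.symm)) hwX] at hpq
      rcases D.ph_pm hr with p | p <;> omega
    · intro e
      rw [← e, hPr, hP0 u hu (fun e' => huw (e'.trans e)) huX] at hpq
      rcases D.ph_pm hr with p | p <;> omega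
  have hT : D.T = {r, u, w} := by
    refine (eq_of_subset_of_card_le ?_ ?_).symm
    · intro t ht
      simp only [mem_insert, mem_singleton] at ht
      rcases ht with rfl | rfl | rfl <;> assumption
    · rw [D.card_T, card_insert_of_notMem (by simp [hru.1, hru.2]), card_pair huw]
  -- there is no second odd class
  have honly : ∀ l ∈ Od h, l = i := by
    intro l hl
    by_contra hne
    obtain ⟨u', w', huw', hu', hw', a1, a2, af, az, ag⟩ := D.Q_shape hl
    have hs := D.Q_Q l hl i hi hne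
    rw [hg (D.Q l)] at hs
    have hpl := D.P_Q 2 h2E l hl
    rw [ag (D.P 2)] at hpl
    have hphl := D.ph_Q l hl
    rw [ag D.ph] at hphl
    by_cases hu'T : u' ∈ D.T
    · have hw'T : w' ∈ D.T := by
        by_contra e
        rw [D.ph_zero e hw'] at hphl
        rcases D.ph_pm hu'T with p | p <;> omega
      have hr' : r ≠ u' ∧ r ≠ w' := by
        have huX : u' ≠ X := fun e => hXT (e ▸ hu'T)
        have hwX : w' ≠ X := fun e => hXT (e ▸ hw'T)
        constructor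
        · intro e
          rw [← e, hPr, hP0 w' hw' (fun e' => huw' (e.symm.trans e'.symm)) hwX] at hpl
          rcases D.ph_pm hr with p | p <;> omega
        · intro e
          rw [← e, hPr, hP0 u' hu' (fun e' => huw' (e'.trans e)) huX] at hpl
          rcases D.ph_pm hr with p | p <;> omega
      rw [hT] at hu'T hw'T
      simp only [mem_insert, mem_singleton, hr'.1.symm, hr'.2.symm, false_or] at hu'T hw'T
      rcases hu'T with rfl | rfl <;> rcases hw'T with rfl | rfl <;>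
        first
          | exact huw' rfl
          | (rw [a1, a2] at hs; omega)
    · have hw'T : w' ∉ D.T := fun e => by
        rw [D.ph_zero hu'T hu'] at hphl
        rcases D.ph_pm e with p | p <;> omega
      rw [az u (fun e => hu'T (e ▸ huT)) (fun e => hw'T (e ▸ huT)),
        az w (fun e => hu'T (e ▸ hwT)) (fun e => hw'T (e ▸ hwT))] at hs
      omega
  have h4 : h = 4 := by
    rcases D.four_or_eight_le (by omega) with e | e
    · exact e
    · have a := honly 3 (mem_Od.2 ⟨by omega, by decide⟩)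
      have b := honly 5 (mem_Od.2 ⟨by omega, by decide⟩)
      omega
  subst h4
  have hi3 : i = 3 := by omega
  subst hi3
  have hjuw : D.j u = D.j w := by
    have := D.j_Q 3 hi
    rw [hg D.j] at this
    linarith
  have sT : ∀ F : ι → ℤ, ∑ t ∈ D.T, F t = F r + (F u + F w) := fun F => by
    rw [hT, sum_insert (by simp [hru.1, hru.2]), sum_pair huw]
  have sph : ∀ g : ι → ℤ, ∑ t, g t * D.ph t = g D.one + ∑ t ∈ D.T, g t * D.ph t := fun g => by
    rw [← sum_subset (subset_univ (insert D.one D.T)) (fun t _ ht => by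
        simp only [mem_insert, not_or] at ht
        rw [D.ph_zero ht.2 ht.1, mul_zero]), sum_insert D.one_notMem, D.ph_one, mul_one]
  have e1 := D.f_ph
  rw [sph, sT, D.f_one] at e1
  have e2 := D.j_ph
  rw [sph, sT, D.j_one] at e2
  have e3 := D.f_P 2 h2E
  rw [hPg, D.f_one] at e3
  have e4 := D.j_P 2 h2E
  rw [hPg, D.j_one] at e4
  have hXn : X ∉ insert D.one D.T := by simp [hX1, hXT]
  set R := univ \ insert X (insert D.one D.T) with hR
  have split : ∀ F : ι → ℤ, ∑ t, F t = F X + (F D.one + (F r + (F u + F w))) + ∑ t ∈ R, F t := by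
    intro F
    rw [← sum_sdiff (subset_univ (insert X (insert D.one D.T))), sum_insert hXn,
      sum_insert D.one_notMem, sT, add_comm]
  have e5 := D.j_sq
  rw [split, D.j_one, ← hjuw] at e5
  have e6 := D.f_j
  rw [split, D.f_one, D.j_one, ← hjuw, ← hf] at e6
  have hRnn : ∀ t ∈ R, 4 ≤ D.j t * D.j t := fun t ht => by
    rw [hR, mem_sdiff, mem_insert, mem_insert] at ht
    exact D.four_le_sq (fun e => ht.2 (Or.inr (Or.inr e))) fun e => ht.2 (Or.inr (Or.inl e))
  have hR4 : 4 * (R.card : ℤ) ≤ ∑ t ∈ R, D.j t * D.j t := by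
    have := card_nsmul_le_sum R (fun t => D.j t * D.j t) 4 hRnn
    rw [nsmul_eq_mul] at this
    linarith
  rw [← hphuw, ← hjuw] at e2
  rw [← hphuw, ← hf] at e1
  have hEv : Ev 4 = {2} := by decide
  have hOd : Od 4 = {3} := by decide
  have hcong := D.cong u
  rw [hEv, hOd, sum_singleton, sum_singleton, h1,
    hP0 u hu hru.1.symm (fun e : u = X => hXT (e ▸ huT))] at hcong
  push_cast at hcong e5
  obtain ⟨c, hc⟩ := hcong
  obtain ⟨d, hd⟩ := D.four u
  have sq1 : ∀ {p : ℤ}, p = 1 ∨ p = -1 → p * p = 1 := by rintro p (rfl | rfl) <;> rfl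
  have p2 := sq1 (D.ph_pm huT)
  have q2 := sq1 (D.ph_pm hr)
  have s2 := sq1 hXs
  have eU : D.j u * D.j u = (D.j u * D.ph u) * (D.j u * D.ph u) := by
    linear_combination (-(D.j u * D.j u)) * p2
  have eA : D.j r * D.j r = (D.j r * D.ph r) * (D.j r * D.ph r) := by
    linear_combination (-(D.j r * D.j r)) * q2
  have eX : D.j X * D.j X = (D.j X * D.P 2 X) * (D.j X * D.P 2 X) := by
    linear_combination (-(D.j X * D.j X)) * s2
  have m1 : (D.j u * D.ph u) % 4 = 1 := by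
    rcases D.ph_pm huT with p | p <;> rw [p] at hc ⊢ <;> omega
  rw [eU, eA, eX] at e5
  have f6 : (D.f X * D.P 2 X) * (D.j X * D.P 2 X) + (1 + ((D.f r * D.ph r) * (D.j r * D.ph r) +
      2 * ((D.f u * D.ph u) * (D.j u * D.ph u)))) + ∑ t ∈ R, D.f t * D.j t = 0 := by
    linear_combination e6 + D.f X * D.j X * s2 + D.f r * D.j r * q2 + 2 * D.f u * D.j u * p2
  generalize D.j u * D.ph u = U at e2 e5 m1 f6
  generalize D.j r * D.ph r = A at e2 e4 e5 f6
  generalize D.j X * D.P 2 X = V at e4 e5 f6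
  generalize D.f u * D.ph u = Hu at e1 f6
  generalize D.f r * D.ph r = g at e1 e3 f6
  generalize D.f X * D.P 2 X = K at e3 f6
  obtain rfl : A = -1 - 2 * U := by linarith
  obtain rfl : V = 2 * U := by linarith
  have hb : -2 < U ∧ U < 2 := ⟨by nlinarith, by nlinarith⟩
  obtain rfl : U = 1 := by omega
  have hRe : R = ∅ := by
    rw [← card_eq_zero]
    omega
  rw [hRe, sum_empty] at f6
  omega

/-- The odd classes share a common member, with a prescribed sign if there is at most one. -/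
theorem Data.Q_star (c0 : ℤ) (hc0 : c0 = 1 ∨ c0 = -1) (hne : (Od h).Nonempty) :
    ∃ (z : ι) (c : ℤ) (leaf : ℕ → ι), (c = 1 ∨ c = -1) ∧ ((Od h).card = 1 → c = c0) ∧
      z ∉ D.T ∧ z ≠ D.one ∧ Set.InjOn leaf (Od h : Finset ℕ) ∧
      ∀ i ∈ Od h, leaf i ≠ z ∧ leaf i ∉ D.T ∧ leaf i ≠ D.one ∧
        ∀ t, D.Q i t = c * ((if t = leaf i then 1 else 0) - (if t = z then 1 else 0)) := by
  have : ∀ i, ∃ u w : ι, i ∈ Od h → u ≠ w ∧ u ≠ D.one ∧ w ≠ D.one ∧ u ∉ D.T ∧ w ∉ D.T ∧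
      (∀ t, D.Q i t = (if t = u then 1 else 0) - (if t = w then 1 else 0)) ∧
      ∀ g : ι → ℤ, ∑ t, g t * D.Q i t = g u - g w := by
    intro i
    by_cases hi : i ∈ Od h
    · obtain ⟨u, w, huw, hu, hw, a1, a2, af, az, ag⟩ := D.Q_shape hi
      obtain ⟨b1, b2⟩ := D.Q_outside hi huw hu hw a1 a2 af az ag
      refine ⟨u, w, fun _ => ⟨huw, hu, hw, b1, b2, fun t => ?_, ag⟩⟩
      by_cases e1 : t = u
      · rw [if_pos e1, if_neg (e1 ▸ huw), e1, a1, sub_zero]
      by_cases e2 : t = w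
      · rw [if_neg e1, if_pos e2, e2, a2, zero_sub]
      rw [if_neg e1, if_neg e2, az t e1 e2, sub_zero]
    · exact ⟨D.one, D.one, fun h => absurd h hi⟩
  choose u w hQ using this
  have pair : ∀ a ∈ Od h, ∀ b ∈ Od h, a ≠ b →
      (u a = u b ∧ w a ≠ w b) ∨ (w a = w b ∧ u a ≠ u b) := by
    intro a ha b hb hab
    obtain ⟨x1, -, -, -, -, x6, x7⟩ := hQ a ha
    obtain ⟨y1, -, -, -, -, y6, y7⟩ := hQ b hb
    have hs := D.Q_Q a ha b hb hab
    rw [y7 (D.Q a), x6, x6] at hs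
    by_cases e1 : u a = u b <;> by_cases e2 : w a = w b
    · rw [e1, e2] at hs
      simp [y1, y1.symm] at hs
    · exact Or.inl ⟨e1, e2⟩
    · exact Or.inr ⟨e2, e1⟩
    · rw [if_neg (Ne.symm e1), if_neg (Ne.symm e2)] at hs
      split_ifs at hs <;> omega
  obtain ⟨i0, hi0⟩ := hne
  -- orient the star
  have hu_or_w : (∀ a ∈ Od h, u a = u i0) ∨ (∀ a ∈ Od h, w a = w i0) := by
    by_cases hall : ∀ a ∈ Od h, u a = u i0
    · exact Or.inl hall
    push Not at hall
    obtain ⟨k, hk, hku⟩ := hall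
    have hk0 : k ≠ i0 := fun e => hku (by rw [e])
    have hwk : w k = w i0 := by
      rcases pair k hk i0 hi0 hk0 with ⟨e, -⟩ | ⟨e, -⟩
      · exact absurd e hku
      · exact e
    refine Or.inr fun a ha => ?_
    by_contra hne'
    have ha0 : a ≠ i0 := fun e => hne' (by rw [e])
    have hak : a ≠ k := fun e => hne' (by rw [e, hwk])
    rcases pair a ha i0 hi0 ha0 with ⟨e, -⟩ | ⟨e, -⟩
    · rcases pair a ha k hk hak with ⟨e', -⟩ | ⟨e', -⟩
      · exact hku (e'.symm.trans e)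
      · exact hne' (e'.trans hwk)
    · exact hne' e
  -- the two presentations
  have sw : (∀ a ∈ Od h, w a = w i0) → ∃ (z : ι) (leaf : ℕ → ι), z ∉ D.T ∧ z ≠ D.one ∧
      Set.InjOn leaf (Od h : Finset ℕ) ∧ ∀ i ∈ Od h, leaf i ≠ z ∧ leaf i ∉ D.T ∧ leaf i ≠ D.one ∧
        ∀ t, D.Q i t = (1 : ℤ) * ((if t = leaf i then 1 else 0) - (if t = z then 1 else 0)) := by
    intro hw
    refine ⟨w i0, u, (hQ i0 hi0).2.2.2.2.1, (hQ i0 hi0).2.2.1, fun a ha b hb e => ?_,
      fun i hi => ?_⟩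
    · by_contra hab
      rcases pair a ha b hb hab with ⟨-, e'⟩ | ⟨-, e'⟩
      · exact e' ((hw a ha).trans (hw b hb).symm)
      · exact e' e
    · obtain ⟨x1, x2, -, x4, -, x6, -⟩ := hQ i hi
      rw [← hw i hi]
      exact ⟨x1, x4, x2, fun t => by rw [x6 t, one_mul]⟩
  have su : (∀ a ∈ Od h, u a = u i0) → ∃ (z : ι) (leaf : ℕ → ι), z ∉ D.T ∧ z ≠ D.one ∧
      Set.InjOn leaf (Od h : Finset ℕ) ∧ ∀ i ∈ Od h, leaf i ≠ z ∧ leaf i ∉ D.T ∧ leaf i ≠ D.one ∧
        ∀ t, D.Q i t = (-1 : ℤ) * ((if t = leaf i then 1 else 0) - (if t = z then 1 else 0)) := by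
    intro hu
    refine ⟨u i0, w, (hQ i0 hi0).2.2.2.1, (hQ i0 hi0).2.1, fun a ha b hb e => ?_, fun i hi => ?_⟩
    · by_contra hab
      rcases pair a ha b hb hab with ⟨-, e'⟩ | ⟨-, e'⟩
      · exact e' e
      · exact e' ((hu a ha).trans (hu b hb).symm)
    · obtain ⟨x1, -, x3, -, x5, x6, -⟩ := hQ i hi
      rw [← hu i hi]
      exact ⟨x1.symm, x5, x3, fun t => by rw [x6 t]; ring⟩
  by_cases h1 : (Od h).card = 1
  · have hsub : ∀ a ∈ Od h, a = i0 := fun a ha => card_le_one.1 h1.le a ha i0 hi0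
    rcases hc0 with e | e
    · obtain ⟨z, leaf, r1, r2, r3, r4⟩ := sw fun a ha => by rw [hsub a ha]
      exact ⟨z, 1, leaf, Or.inl rfl, fun _ => e.symm, r1, r2, r3, r4⟩
    · obtain ⟨z, leaf, r1, r2, r3, r4⟩ := su fun a ha => by rw [hsub a ha]
      exact ⟨z, -1, leaf, Or.inr rfl, fun _ => e.symm, r1, r2, r3, r4⟩
  rcases hu_or_w with hu | hw
  · obtain ⟨z, leaf, r1, r2, r3, r4⟩ := su hu
    exact ⟨z, -1, leaf, Or.inr rfl, fun e => absurd e h1, r1, r2, r3, r4⟩
  · obtain ⟨z, leaf, r1, r2, r3, r4⟩ := sw hw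
    exact ⟨z, 1, leaf, Or.inl rfl, fun e => absurd e h1, r1, r2, r3, r4⟩

end Cfsg.Agent.Lib.DihedralBlock.Comb
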