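/-
The shape of the principal 2-block of a group with dihedral Sylow 2-subgroup.
-/
import Cfsg.Agent.Lib.DihedralBlock.Comb

set_option autoImplicit false

namespace Cfsg.Agent.Lib.DihedralBlock.Comb

open Finset

variable {ι : Type*} [Fintype ι] [DecidableEq ι] {h : ℕ}

/-- A labelling of the members of the block. -/
structure Config (D : Data ι h) where
  r : ι
  b : ι
  c : ι
  chi : ℕ → ι
  d1 : ℤ
  d2 : ℤ
  d3 : ℤ
  d1_pm : d1 = 1 ∨ d1 = -1
  d2_pm : d2 = 1 ∨ d2 = -1
  d3_pm : d3 = 1 ∨ d3 = -1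
  r_ne : r ≠ D.one
  b_ne : b ≠ D.one
  c_ne : c ≠ D.one
  rb : r ≠ b
  rc : r ≠ c
  bc : b ≠ c
  chi_ne : ∀ i ∈ Ico 1 h, chi i ≠ D.one ∧ chi i ≠ r ∧ chi i ≠ b ∧ chi i ≠ c
  chi_inj : Set.InjOn chi (Ico 1 h : Finset ℕ)
  cover : ∀ t, t = D.one ∨ t = r ∨ t = b ∨ t = c ∨ ∃ i ∈ Ico 1 h, t = chi i
  ph_r : D.ph r = d1
  ph_b : D.ph b = d2
  ph_c : D.ph c = d3
  ph_chi : ∀ l ∈ Ico 1 h, D.ph (chi l) = 0
  P_r : ∀ i ∈ Ev h, D.P i r = d1
  P_b : ∀ i ∈ Ev h, D.P i b = 0
  P_c : ∀ i ∈ Ev h, D.P i c = 0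
  P_chi : ∀ i ∈ Ev h, ∀ l ∈ Ico 1 h, D.P i (chi l) = if l = i then -d1 else 0
  Q_r : ∀ i ∈ Od h, D.Q i r = 0
  Q_b : ∀ i ∈ Od h, D.Q i b = 0
  Q_c : ∀ i ∈ Od h, D.Q i c = 0
  Q_chi : ∀ i ∈ Od h, ∀ l ∈ Ico 1 h,
    D.Q i (chi l) = d1 * ((if l = i then 1 else 0) - (if l = 1 then 1 else 0))
  j_r : D.j r = d1
  j_b : D.j b = -d2
  j_c : D.j c = -d3
  j_chi : ∀ l ∈ Ico 1 h, D.j (chi l) = if Even l then 2 * d1 else -(2 * d1)

variable (D : Data ι h)

/-- Counting with the squares at the central involution. -/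
theorem Data.count {φ : ℕ → ι} (hinj : Set.InjOn φ (Ico 1 h : Finset ℕ))
    (hout : ∀ i ∈ Ico 1 h, φ i ∉ D.T ∧ φ i ≠ D.one) :
    (∀ t ∈ D.T, D.j t = 1 ∨ D.j t = -1) ∧ (∀ i ∈ Ico 1 h, D.j (φ i) = 2 ∨ D.j (φ i) = -2) ∧
      ∀ t, t ∈ D.T ∨ t = D.one ∨ ∃ i ∈ Ico 1 h, t = φ i := by
  have hh := D.two_le
  set R := univ \ insert D.one D.T with hR
  have hsub : (Ico 1 h).image φ ⊆ R := fun t ht => by
    obtain ⟨i, hi, rfl⟩ := mem_image.1 ht
    simp [hR, (hout i hi).1, (hout i hi).2]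
  have hsplit : ∑ t ∈ R, D.j t * D.j t + (1 + ∑ t ∈ D.T, D.j t * D.j t) = 4 * (h : ℤ) := by
    have := sum_sdiff (f := fun t => D.j t * D.j t) (subset_univ (insert D.one D.T))
    rw [sum_insert D.one_notMem, D.j_one, mul_one, D.j_sq] at this
    exact this
  have hT : ∀ t ∈ D.T, 0 ≤ D.j t * D.j t - 1 := fun t ht => by
    linarith [D.one_le_sq ht]
  have hRe : ∀ t ∈ R, 0 ≤ D.j t * D.j t - 4 := fun t ht => by
    rw [hR, mem_sdiff, mem_insert, not_or] at ht
    linarith [D.four_le_sq ht.2.2 ht.2.1]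
  have hA : ∑ t ∈ D.T, (D.j t * D.j t - 1) = ∑ t ∈ D.T, D.j t * D.j t - 3 := by
    rw [sum_sub_distrib, sum_const, D.card_T]; norm_num
  have hB : ∑ t ∈ R, (D.j t * D.j t - 4) = ∑ t ∈ R, D.j t * D.j t - 4 * (R.card : ℤ) := by
    rw [sum_sub_distrib, sum_const, nsmul_eq_mul]; ring
  have hcard : ((Ico 1 h).image φ).card = h - 1 := by
    rw [card_image_of_injOn hinj, Nat.card_Ico]
  have hle := card_le_card hsub
  rw [hcard] at hle
  have h1 := sum_nonneg hT
  have h2 := sum_nonneg hRe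
  have hge : ((h : ℤ) - 1) ≤ R.card := by omega
  have hA0 : ∑ t ∈ D.T, (D.j t * D.j t - 1) = 0 := by linarith
  have hB0 : ∑ t ∈ R, (D.j t * D.j t - 4) = 0 := by linarith
  have hR' : (Ico 1 h).image φ = R := eq_of_subset_of_card_le hsub (by
    rw [hcard]
    have : (R.card : ℤ) ≤ (h : ℤ) - 1 := by linarith
    omega)
  refine ⟨fun t ht => ?_, fun i hi => ?_, fun t => ?_⟩
  · have := sub_eq_zero.1 ((sum_eq_zero_iff_of_nonneg hT).1 hA0 t ht)
    rcases mul_self_pm (m := 1) (by norm_num) this.le with e | e | e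
    · exact absurd e (D.j_ne t)
    · exact Or.inl e
    · exact Or.inr e
  · have := sub_eq_zero.1 ((sum_eq_zero_iff_of_nonneg hRe).1 hB0 (φ i)
      (hsub (mem_image_of_mem _ hi)))
    exact mul_self_eq_mul_self_iff.1 (show D.j (φ i) * D.j (φ i) = 2 * 2 by rw [this]; rfl)
  · by_cases ht : t ∈ insert D.one D.T
    · rcases mem_insert.1 ht with e | e
      · exact Or.inr (Or.inl e)
      · exact Or.inl e
    · have : t ∈ R := by simp only [hR, mem_sdiff, mem_univ, ht, not_false_iff, and_self]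
      rw [← hR'] at this
      obtain ⟨i, hi, e⟩ := mem_image.1 this
      exact Or.inr (Or.inr ⟨i, hi, e.symm⟩)

/-- A labelling by the classes. -/
theorem Data.exists_chi {r X : ℕ → ι}
    (hP : ∀ i ∈ Ev h, r i ∈ D.T ∧ X i ∉ D.T ∧ X i ≠ D.one ∧
      (D.P i (X i) = 1 ∨ D.P i (X i) = -1) ∧ D.P i (r i) = D.ph (r i) ∧
      (∀ t, t ≠ D.one → t ≠ r i → t ≠ X i → D.P i t = 0) ∧
      ∀ g : ι → ℤ, ∑ t, g t * D.P i t = g D.one + g (r i) * D.ph (r i) + g (X i) * D.P i (X i))
    (c0 : ℤ) (hc0 : c0 = 1 ∨ c0 = -1) :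
    ∃ (φ : ℕ → ι) (c : ℤ), (c = 1 ∨ c = -1) ∧ ((Od h).card ≤ 1 → c = c0) ∧
      Set.InjOn φ (Ico 1 h : Finset ℕ) ∧ (∀ i ∈ Ico 1 h, φ i ∉ D.T ∧ φ i ≠ D.one) ∧
      (∀ i ∈ Ev h, φ i = X i) ∧
      ∀ i ∈ Od h, ∀ t, D.Q i t = c * ((if t = φ i then 1 else 0) - (if t = φ 1 then 1 else 0)) := by
  have hh := D.two_le
  by_cases hne : (Od h).Nonempty
  · obtain ⟨z, c, leaf, hc, hcu, hzT, hz1, hinj, hl⟩ := D.Q_star c0 hc0 hne
    let φ : ℕ → ι := fun i => if Even i then X i else if i = 1 then z else leaf i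
    have φ1 : φ 1 = z := by simp [φ]
    have φE : ∀ i ∈ Ev h, φ i = X i := fun i hi => by simp [φ, (mem_Ev.1 hi).2]
    have φO : ∀ i ∈ Od h, φ i = leaf i := fun i hi => by
      obtain ⟨⟨h2, -⟩, ho⟩ := mem_Od.1 hi
      simp [φ, Nat.not_even_iff_odd.2 ho, show i ≠ 1 by omega]
    have hXQ : ∀ i ∈ Ev h, ∀ l ∈ Od h, X i ≠ z ∧ X i ≠ leaf l := by
      intro i hi l hl'
      obtain ⟨a1, a2, a3, a4, a5, a6, a7⟩ := hP i hi
      obtain ⟨b1, b2, b3, b4⟩ := hl l hl'
      have hs := D.P_Q i hi l hl'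
      rw [show (fun t => D.P i t * D.Q l t) = fun t => D.Q l t * D.P i t from
        funext fun t => mul_comm _ _, a7 (D.Q l), D.Q_one l hl', b4, b4] at hs
      have hrl : r i ≠ leaf l := fun e => b2 (e ▸ a1)
      have hrz : r i ≠ z := fun e => hzT (e ▸ a1)
      rw [if_neg hrl, if_neg hrz] at hs
      constructor <;> intro e <;> rw [e] at hs a4
      · rw [if_neg b1.symm, if_pos rfl] at hs
        rcases hc with x | x <;> rcases a4 with y | y <;> rw [x, y] at hs <;> omega
      · rw [if_pos rfl, if_neg b1] at hs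
        rcases hc with x | x <;> rcases a4 with y | y <;> rw [x, y] at hs <;> omega
    obtain ⟨l0, hl0⟩ := hne
    refine ⟨φ, c, hc, fun e => hcu (by have := card_pos.2 ⟨l0, hl0⟩; omega), ?_, ?_, φE,
      fun i hi t => by rw [(hl i hi).2.2.2 t, φO i hi, φ1]⟩
    · intro a ha b hb e
      rw [mem_coe, Ico_split hh, mem_union, mem_insert] at ha hb
      rcases ha with ha | rfl | ha <;> rcases hb with hb | rfl | hb
      · rw [φE a ha, φE b hb] at e
        by_contra hab
        exact (D.P_common hP ha hb hab).2 e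
      · rw [φE a ha, φ1] at e
        exact absurd e (hXQ a ha l0 hl0).1
      · rw [φE a ha, φO b hb] at e
        exact absurd e (hXQ a ha b hb).2
      · rw [φE b hb, φ1] at e
        exact absurd e.symm (hXQ b hb l0 hl0).1
      · rfl
      · rw [φO b hb, φ1] at e
        exact absurd e.symm (hl b hb).1
      · rw [φE b hb, φO a ha] at e
        exact absurd e.symm (hXQ b hb a ha).2
      · rw [φO a ha, φ1] at e
        exact absurd e (hl a ha).1
      · rw [φO a ha, φO b hb] at e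
        exact hinj ha hb e
    · intro i hi
      rw [Ico_split hh, mem_union, mem_insert] at hi
      rcases hi with hi | rfl | hi
      · rw [φE i hi]; exact ⟨(hP i hi).2.1, (hP i hi).2.2.1⟩
      · rw [φ1]; exact ⟨hzT, hz1⟩
      · rw [φO i hi]; exact ⟨(hl i hi).2.1, (hl i hi).2.2.1⟩
  · have h2 : h = 2 := by
      by_contra hn
      refine hne ⟨3, mem_Od.2 ⟨?_, by decide⟩⟩
      rcases D.four_or_eight_le hn with e | e <;> omega
    obtain ⟨z, hzT, hz1⟩ : ∃ z, z ∉ D.T ∧ z ≠ D.one := by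
      by_contra hn
      push Not at hn
      have hu : (univ : Finset ι) = insert D.one D.T := by
        ext t
        simp only [mem_univ, mem_insert, true_iff]
        by_cases ht : t ∈ D.T
        · exact Or.inr ht
        · exact Or.inl (hn t ht)
      have hs := D.j_sq
      rw [hu, sum_insert D.one_notMem, D.j_one] at hs
      have h2' : (h : ℤ) = 2 := by exact_mod_cast h2
      have hpm : ∀ t ∈ D.T, D.j t * D.j t = 1 := fun t ht => by
        have h7 := single_le_sum (f := fun t => D.j t * D.j t) (fun t _ => mul_self_nonneg _) ht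
        have hodd := (D.odd_f t).2.2 ((D.odd_f t).1.2 (Or.inl ht))
        rw [Int.odd_iff] at hodd
        have : -3 < D.j t ∧ D.j t < 3 := ⟨by nlinarith, by nlinarith⟩
        rcases (by omega : D.j t = 1 ∨ D.j t = -1) with e | e <;> rw [e] <;> rfl
      rw [sum_congr rfl hpm, sum_const, D.card_T] at hs
      norm_num at hs
      omega
    have hIco : Ico 1 h = {1} := by rw [h2]; rfl
    refine ⟨fun _ => z, c0, hc0, fun _ => rfl, ?_, fun i _ => ⟨hzT, hz1⟩, ?_, ?_⟩
    · rw [hIco]; simp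
    · intro i hi
      obtain ⟨⟨a, b⟩, e⟩ := mem_Ev.1 hi
      rw [Nat.even_iff] at e
      omega
    · exact fun i hi => absurd ⟨i, hi⟩ hne

/-- Every datum has the expected shape. -/
theorem exists_config : Nonempty (Config D) := by
  obtain ⟨rr, X, hP⟩ := D.exists_P
  have hh := D.two_le
  obtain ⟨φ0, c0, -, -, i0, o0, -, -⟩ := D.exists_chi hP 1 (Or.inl rfl)
  obtain ⟨hTpm, -, -⟩ := D.count i0 o0
  -- the three characters of odd degree
  have hpj : ∀ t ∈ D.T, D.j t = D.ph t ∨ D.j t = -D.ph t := fun t ht => by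
    rcases hTpm t ht with a | a <;> rcases D.ph_pm ht with b | b <;> omega
  obtain ⟨r, b, c, hT, rb, rc, bc, jr, jb, jc⟩ : ∃ r b c, D.T = {r, b, c} ∧ r ≠ b ∧ r ≠ c ∧ b ≠ c ∧
      D.j r = D.ph r ∧ D.j b = -D.ph b ∧ D.j c = -D.ph c := by
    obtain ⟨x, y, w, hxy, hxw, hyw, hT⟩ := card_eq_three.1 D.card_T
    have hs := D.j_ph
    rw [← sum_subset (subset_univ (insert D.one D.T)) (fun t _ ht => by
        simp only [mem_insert, not_or] at ht
        rw [D.ph_zero ht.2 ht.1, mul_zero]), sum_insert D.one_notMem, D.j_one, D.ph_one, hT,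
      sum_insert (by simp [hxy, hxw]), sum_pair hyw] at hs
    have hm : ∀ t ∈ D.T, D.j t * D.ph t = 1 ∧ D.j t = D.ph t ∨
        D.j t * D.ph t = -1 ∧ D.j t = -D.ph t := fun t ht => by
      rcases hpj t ht with a | a <;> rcases D.ph_pm ht with b | b <;> rw [a, b] <;>
        simp
    rcases hm x (by simp [hT]) with ⟨ex, jx⟩ | ⟨ex, jx⟩ <;>
      rcases hm y (by simp [hT]) with ⟨ey, jy⟩ | ⟨ey, jy⟩ <;>
      rcases hm w (by simp [hT]) with ⟨ew, jw⟩ | ⟨ew, jw⟩ <;>
      rw [ex, ey, ew] at hs <;> first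
        | omega
        | exact ⟨x, y, w, hT, hxy, hxw, hyw, jx, jy, jw⟩
        | exact ⟨y, x, w, by rw [hT]; ext; simp; tauto, hxy.symm, hyw, hxw, jy, jx, jw⟩
        | exact ⟨w, x, y, by rw [hT]; ext; simp; tauto, hxw.symm, hyw.symm, hxy, jw, jx, jy⟩
  have hrT : r ∈ D.T := by simp [hT]
  have hbT : b ∈ D.T := by simp [hT]
  have hcT : c ∈ D.T := by simp [hT]
  set d1 := D.ph r with hd1
  have d1pm : d1 = 1 ∨ d1 = -1 := D.ph_pm hrT
  obtain ⟨φ, cc, hcc, hcu, hinj, hout, hE, hO⟩ := D.exists_chi hP d1 d1pm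
  obtain ⟨-, hj2, hcover⟩ := D.count hinj hout
  have hjX : ∀ i ∈ Ev h, D.j (X i) = 2 ∨ D.j (X i) = -2 := fun i hi => by
    rw [← hE i hi]
    refine hj2 i ?_
    rw [Ico_split hh]; exact mem_union_left _ hi
  -- the even classes
  have hrr : ∀ i ∈ Ev h, rr i = r ∧ D.P i (X i) = -d1 ∧ D.j (X i) = 2 * d1 := by
    intro i hi
    obtain ⟨a1, a2, a3, a4, a5, a6, a7⟩ := hP i hi
    have hjP := a7 D.j
    rw [D.j_P i hi, D.j_one] at hjP
    have hfP := a7 D.f
    rw [D.f_P i hi, D.f_one] at hfP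
    have hri : rr i = r := by
      rw [hT, mem_insert, mem_insert, mem_singleton] at a1
      rcases a1 with e | e | e
      · exact e
      · exfalso
        rw [e, jb] at hjP
        rcases D.ph_pm hbT with p | p <;> rcases a4 with q | q <;> rcases hjX i hi with v | v <;>
          rw [p, q, v] at hjP <;> omega
      · exfalso
        rw [e, jc] at hjP
        rcases D.ph_pm hcT with p | p <;> rcases a4 with q | q <;> rcases hjX i hi with v | v <;>
          rw [p, q, v] at hjP <;> omega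
    rw [hri, ← hd1] at hjP hfP
    rw [jr] at hjP
    have := D.f_pos r
    have := D.f_pos (X i)
    refine ⟨hri, ?_⟩
    rcases d1pm with p | p <;> rcases a4 with q | q <;> rcases hjX i hi with v | v <;>
      rw [p, q, v] at hjP ⊢ <;> rw [p, q] at hfP <;> omega
  -- sums over the block
  have hn1r : r ≠ D.one := fun e => D.one_notMem (e ▸ hrT)
  have hn1b : b ≠ D.one := fun e => D.one_notMem (e ▸ hbT)
  have hn1c : c ≠ D.one := fun e => D.one_notMem (e ▸ hcT)
  have huniv : (univ : Finset ι) = insert D.one D.T ∪ (Ico 1 h).image φ := by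
    ext t
    simp only [mem_univ, mem_union, mem_insert, mem_image, true_iff]
    rcases hcover t with e | e | ⟨i, hi, e⟩
    · exact Or.inl (Or.inr e)
    · exact Or.inl (Or.inl e)
    · exact Or.inr ⟨i, hi, e.symm⟩
  have hdisj : Disjoint (insert D.one D.T) ((Ico 1 h).image φ) := by
    rw [disjoint_right]
    intro t ht
    obtain ⟨i, hi, rfl⟩ := mem_image.1 ht
    simp [(hout i hi).1, (hout i hi).2]
  have hsum : ∀ F : ι → ℤ, ∑ t, F t = F D.one + (F r + (F b + F c)) +
      (∑ i ∈ Ev h, F (X i) + (F (φ 1) + ∑ i ∈ Od h, F (φ i))) := by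
    intro F
    rw [huniv, sum_union hdisj, sum_insert D.one_notMem, hT, sum_insert (by simp [rb, rc]),
      sum_pair bc, sum_image hinj, Ico_split hh, sum_union (disjoint_split h),
      sum_insert (by simp [mem_Od]), sum_congr rfl fun i hi => congrArg F (hE i hi)]
  -- the odd classes
  have hz : ∀ i ∈ Od h, D.j (φ i) = D.j (φ 1) ∧ D.f (φ i) = D.f (φ 1) := by
    intro i hi
    have hne : φ i ≠ φ 1 := fun e => by
      have := hinj (by rw [mem_coe, Ico_split hh]; simp [hi]) (by simp; omega) e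
      obtain ⟨⟨a, -⟩, -⟩ := mem_Od.1 hi
      omega
    have key : ∀ g : ι → ℤ, ∑ t, g t * D.Q i t = cc * (g (φ i) - g (φ 1)) := fun g => by
      simp only [hO i hi, mul_sub, mul_ite, mul_one, mul_zero, sum_sub_distrib, sum_ite_eq',
        mem_univ, if_true]
      ring
    have h1 := key D.j
    have h2 := key D.f
    rw [D.j_Q i hi] at h1
    rw [D.f_Q i hi] at h2
    rcases hcc with e | e <;> rw [e] at h1 h2 <;> omega
  obtain ⟨m, hm⟩ : ∃ m, h = 2 * m + 2 := by
    obtain ⟨a, ha⟩ := D.even_h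
    exact ⟨a - 1, by omega⟩
  -- the central involution against the degrees
  have hA : ∀ i ∈ Ev h, D.f (X i) * D.j (X i) = 2 * (1 + D.f r * d1) := by
    intro i hi
    obtain ⟨e1, e2, e3⟩ := hrr i hi
    have hfP := (hP i hi).2.2.2.2.2.2 D.f
    rw [D.f_P i hi, D.f_one, e1, e2, ← hd1] at hfP
    rw [e3]
    linarith
  have hjz : D.j (φ 1) = -(2 * d1) ∧ d1 * D.f (φ 1) = 1 + D.f r * d1 := by
    have hf := D.f_ph
    rw [← sum_subset (subset_univ (insert D.one D.T)) (fun t _ ht => by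
        simp only [mem_insert, not_or] at ht
        rw [D.ph_zero ht.2 ht.1, mul_zero]), sum_insert D.one_notMem, D.f_one, D.ph_one, hT,
      sum_insert (by simp [rb, rc]), sum_pair bc, ← hd1] at hf
    have hs := hsum fun t => D.f t * D.j t
    rw [D.f_j, sum_congr rfl hA, sum_const, sum_congr rfl fun i hi => show D.f (φ i) * D.j (φ i) =
        D.f (φ 1) * D.j (φ 1) by rw [(hz i hi).1, (hz i hi).2], sum_const, show (Ev h).card = m by subst hm; exact card_Ev m,
      show (Od h).card = m by subst hm; exact card_Od m,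
      D.f_one, D.j_one, jr, jb, jc, nsmul_eq_mul, nsmul_eq_mul] at hs
    have hk : ((m : ℤ) + 1) * (D.f (φ 1) * D.j (φ 1) + 2 * (1 + D.f r * d1)) = 0 := by
      linear_combination -hs + hf
    have hk' := (mul_eq_zero.1 hk).resolve_left (by omega)
    have := D.f_pos r
    have := D.f_pos (φ 1)
    have hj1 := hj2 1 (by simp; omega)
    rcases d1pm with p | p <;> rcases hj1 with v | v <;> rw [p, v] at hk' ⊢ <;> omega
  have hcd : cc = d1 := by
    by_cases h8 : 8 ≤ h
    · have hO3 : 3 ∈ Od h := mem_Od.2 ⟨by omega, by decide⟩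
      have hE2 : 2 ∈ Ev h := mem_Ev.2 ⟨by omega, by decide⟩
      obtain ⟨e1, e2, e3⟩ := hrr 2 hE2
      have hout3 := hout 3 (by simp; omega)
      have h31 : φ 3 ≠ φ 1 := fun e =>
        absurd (hinj (by simp; omega) (by simp; omega) e) (by omega)
      have hPz : ∀ i ∈ Ev h, D.P i (φ 3) = 0 := fun i hi =>
        (hP i hi).2.2.2.2.2.1 _ hout3.2 (fun e => hout3.1 (e ▸ (hP i hi).1)) (by
          rw [← hE i hi]
          intro e
          have h3 := hinj (by simp; omega) (by rw [mem_coe, Ico_split hh]; exact mem_union_left _ hi) e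
          rw [← h3] at hi
          exact absurd (mem_Ev.1 hi).2 (by decide))
      have c3 := D.cong (φ 3)
      rw [D.ph_zero hout3.1 hout3.2, sum_eq_zero hPz,
        sum_eq_single 3 (fun i hi hne => by
          rw [hO i hi, if_neg h31, if_neg, sub_zero, mul_zero]
          exact fun e => hne (hinj (by rw [mem_coe, Ico_split hh]; simp [hi]) (by simp; omega) e.symm))
          (fun e => absurd hO3 e),
        hO 3 hO3, if_pos rfl, if_neg h31] at c3
      have hX2 := hE 2 hE2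
      have hout2 : X 2 ∉ D.T ∧ X 2 ≠ D.one := ⟨(hP 2 hE2).2.1, (hP 2 hE2).2.2.1⟩
      have c2 := D.cong (X 2)
      rw [D.ph_zero hout2.1 hout2.2,
        sum_eq_single 2 (fun i hi hne => (hP i hi).2.2.2.2.2.1 _ hout2.2
          (fun e => hout2.1 (e ▸ (hP i hi).1)) fun e => (D.P_common hP hE2 hi hne.symm).2 e)
          (fun e => absurd hE2 e),
        e2, sum_eq_zero (fun i hi => by
          rw [hO i hi, ← hX2]
          have h2m : (2 : ℕ) ∈ ↑(Ico 1 h) := by simp; omega
          rw [if_neg, if_neg, sub_zero, mul_zero]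
          · exact fun e => absurd (hinj h2m (by simp; omega) e) (by omega)
          · intro e
            have h3 := hinj h2m (by rw [mem_coe, Ico_split hh]; simp [hi]) e
            rw [← h3] at hi
            exact absurd (mem_Od.1 hi).2 (by decide))] at c2
      have hf2 := hA 2 hE2
      rw [e3] at hf2
      rw [(hz 3 hO3).2] at c3
      have hd := dvd_sub c3 c2
      obtain ⟨k, hk⟩ := hd
      have h8' : (8 : ℤ) ≤ h := by exact_mod_cast h8
      rcases d1pm with p | p <;> rcases hcc with q | q <;> rw [p, q] at hk ⊢ <;>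
        rw [p] at hjz hf2 <;> first
          | rfl
          | (exfalso
             have h4 : (h : ℤ) * k = 4 ∨ (h : ℤ) * k = -4 := by omega
             rcases lt_trichotomy k 0 with hk0 | hk0 | hk0
             · nlinarith
             · rw [hk0] at h4; omega
             · nlinarith)
    · refine hcu ?_
      have : h = 2 ∨ h = 4 := by
        by_cases e : h = 2
        · exact Or.inl e
        · rcases D.four_or_eight_le e with x | x
          · exact Or.inr x
          · exact absurd x h8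
      rcases this with rfl | rfl <;> decide
  refine ⟨⟨r, b, c, φ, d1, D.ph b, D.ph c, d1pm, D.ph_pm hbT, D.ph_pm hcT, hn1r, hn1b, hn1c, rb, rc,
    bc, fun i hi => ⟨(hout i hi).2, fun e => (hout i hi).1 (e ▸ hrT),
      fun e => (hout i hi).1 (e ▸ hbT), fun e => (hout i hi).1 (e ▸ hcT)⟩, hinj, fun t => ?_,
    rfl, rfl, rfl, fun l hl => D.ph_zero (hout l hl).1 (hout l hl).2, ?_, ?_, ?_, ?_, ?_, ?_, ?_,
    fun i hi l hl => ?_, jr, jb, jc, fun l hl => ?_⟩⟩
  · rcases hcover t with e | e | e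
    · rw [hT, mem_insert, mem_insert, mem_singleton] at e
      tauto
    · exact Or.inl e
    · exact Or.inr (Or.inr (Or.inr (Or.inr e)))
  · intro i hi
    have := (hP i hi).2.2.2.2.1
    rwa [(hrr i hi).1] at this
  · intro i hi
    refine (hP i hi).2.2.2.2.2.1 _ hn1b ?_ fun e => (hP i hi).2.1 (e ▸ hbT)
    rw [(hrr i hi).1]; exact rb.symm
  · intro i hi
    refine (hP i hi).2.2.2.2.2.1 _ hn1c ?_ fun e => (hP i hi).2.1 (e ▸ hcT)
    rw [(hrr i hi).1]; exact rc.symm
  · intro i hi l hl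
    have hi' : i ∈ Ico 1 h := by rw [Ico_split hh]; exact mem_union_left _ hi
    split_ifs with e
    · subst e; rw [hE l hi]; exact (hrr l hi).2.1
    · refine (hP i hi).2.2.2.2.2.1 _ (hout l hl).2 (fun e' => (hout l hl).1 ?_) fun e' => ?_
      · rw [e', (hrr i hi).1]; exact hrT
      · exact e (hinj hl hi' (e'.trans (hE i hi).symm))
  · intro i hi
    have hi' : i ∈ Ico 1 h := by rw [Ico_split hh]; simp [hi]
    rw [hO i hi, if_neg fun e : r = φ i => (hout i hi').1 (e ▸ hrT),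
      if_neg fun e : r = φ 1 => (hout 1 (by simp; omega)).1 (e ▸ hrT), sub_zero, mul_zero]
  · intro i hi
    have hi' : i ∈ Ico 1 h := by rw [Ico_split hh]; simp [hi]
    rw [hO i hi, if_neg fun e : b = φ i => (hout i hi').1 (e ▸ hbT),
      if_neg fun e : b = φ 1 => (hout 1 (by simp; omega)).1 (e ▸ hbT), sub_zero, mul_zero]
  · intro i hi
    have hi' : i ∈ Ico 1 h := by rw [Ico_split hh]; simp [hi]
    rw [hO i hi, if_neg fun e : c = φ i => (hout i hi').1 (e ▸ hcT),
      if_neg fun e : c = φ 1 => (hout 1 (by simp; omega)).1 (e ▸ hcT), sub_zero, mul_zero]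
  · have hi' : i ∈ Ico 1 h := by rw [Ico_split hh]; simp [hi]
    have h1' : 1 ∈ Ico 1 h := by simp; omega
    rw [hO i hi, hcd]
    simp only [hinj.eq_iff hl hi', hinj.eq_iff hl h1']
  · rw [Ico_split hh, mem_union, mem_insert] at hl
    rcases hl with hl | rfl | hl
    · rw [if_pos (mem_Ev.1 hl).2, hE l hl]; exact (hrr l hl).2.2
    · rw [if_neg (by decide)]; exact hjz.1
    · rw [if_neg (Nat.not_even_iff_odd.2 (mem_Od.1 hl).2), (hz l hl).1]; exact hjz.1

end Cfsg.Agent.Lib.DihedralBlock.Comb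

namespace Cfsg.Agent.Lib.DihedralBlock.Comb

open Finset

variable {ι : Type*} [Fintype ι] [DecidableEq ι] {h : ℕ} {D : Data ι h} (C : Config D)

include C in
theorem Config.univ_eq : (univ : Finset ι) = {D.one, C.r, C.b, C.c} ∪ (Ico 1 h).image C.chi := by
  ext t
  simp only [mem_univ, mem_union, mem_insert, mem_singleton, mem_image, true_iff]
  rcases C.cover t with e | e | e | e | ⟨i, hi, e⟩
  · tauto
  · tauto
  · tauto
  · tauto
  · exact Or.inr ⟨i, hi, e.symm⟩

/-- Sums over the block. -/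
theorem Config.sum_eq {A : Type*} [AddCommMonoid A] (F : ι → A) :
    ∑ t, F t = F D.one + (F C.r + (F C.b + F C.c)) + ∑ i ∈ Ico 1 h, F (C.chi i) := by
  rw [C.univ_eq, sum_union, sum_insert (by simp [C.r_ne.symm, C.b_ne.symm, C.c_ne.symm]),
    sum_insert (by simp [C.rb, C.rc]), sum_pair C.bc, sum_image C.chi_inj]
  rw [disjoint_right]
  intro t ht
  obtain ⟨i, hi, rfl⟩ := mem_image.1 ht
  obtain ⟨a, b, c, d⟩ := C.chi_ne i hi
  simp [a, b, c, d]

include C in
theorem Config.card_eq : Fintype.card ι = h + 3 := by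
  have hh := D.two_le
  have := C.sum_eq (fun _ => (1 : ℕ))
  simp only [sum_const, card_univ, smul_eq_mul, mul_one, Nat.card_Ico] at this
  omega

end Cfsg.Agent.Lib.DihedralBlock.Comb
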