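/-
The principal 2-block of a group with dihedral Sylow 2-subgroup.
-/
import Cfsg.Agent.Lib.DihedralBlock.Fourier
import Cfsg.Agent.Lib.DihedralBlock.Config

set_option autoImplicit false

namespace Cfsg.Agent.Lib.DihedralBlock.Main

open Subgroup Cfsg.Agent.Lib.Characters.Basic Cfsg.Agent.Lib.DihedralBlock.Sections
  Cfsg.Agent.Lib.DihedralBlock.Fourier Cfsg.Agent.Lib.DihedralBlock.Comb Cfsg.Agent.Lib.Blocks
open scoped ComplexConjugate

universe u

attribute [local instance] Classical.propDecidable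

variable {G : Type u} [Group G] [Finite G] {N : ℕ} [NeZero N] {σ : G} {P : Sylow 2 G}
  (hR : Rot P N σ) (M : Ideal Cfsg.AlgInt) (hM : Cfsg.IsPModular 2 M) {ζ : ℂ}
  (hζ : IsPrimitiveRoot ζ N)

include hR in
theorem exists_half_pow : ∃ k, N / 2 = 2 ^ (k + 1) := by
  obtain ⟨i, hi⟩ := hR.isPow (mem_zpowers σ)
  rw [hR.order] at hi
  have := hR.four_le
  rcases i with _ | _ | i
  · simp at hi; omega
  · simp at hi; omega
  · exact ⟨i, by rw [hi, pow_succ _ (i + 1), Nat.mul_div_cancel _ two_pos]⟩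

include hR in
theorem zeta_half : ζ ^ (N / 2) = -1 ∨ ¬ IsPrimitiveRoot ζ N := by
  by_cases h : IsPrimitiveRoot ζ N
  · left
    have hd := hR.four_dvd
    have := hR.four_le
    exact (h.pow (by omega) (show N = N / 2 * 2 by omega)).eq_neg_one_of_two_right
  · exact Or.inr h

include hR in
theorem expn_mul_half (i : ℕ) :
    expn hζ (((i : ℕ) : ZMod N) * ((N / 2 : ℕ) : ZMod N)) = (-1) ^ i := by
  rw [← Nat.cast_mul, expn_natCast, mul_comm, pow_mul,
    (zeta_half hR).resolve_right (not_not.2 hζ)]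

include hR in
theorem cast_half_mul {i k : ℕ} (h : Even i ↔ Even k) :
    (i : ZMod N) * ((N / 2 : ℕ) : ZMod N) = (k : ZMod N) * ((N / 2 : ℕ) : ZMod N) := by
  have hh : ((N / 2 : ℕ) : ZMod N) + ((N / 2 : ℕ) : ZMod N) = 0 :=
    Fusion.Dihedral.half_add_half hR.four_dvd
  have e : ∀ i : ℕ, (i : ZMod N) * ((N / 2 : ℕ) : ZMod N) =
      if Even i then 0 else ((N / 2 : ℕ) : ZMod N) := by
    intro i
    rcases Nat.even_or_odd' i with ⟨a, rfl | rfl⟩
    · rw [if_pos (even_two_mul a)]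
      push_cast
      linear_combination (a : ZMod N) * hh
    · rw [if_neg (by simp)]
      push_cast
      linear_combination (a : ZMod N) * hh
  rw [e, e, if_congr h rfl rfl]

include hR in
theorem cast_eq_iff {a b : ℕ} (ha : a ≤ N / 2) (hb : b ≤ N / 2) :
    (a : ZMod N) = (b : ZMod N) ↔ a = b := by
  have := hR.four_le
  exact ⟨fun e => by
    have := congrArg ZMod.val e
    rwa [ZMod.val_cast_of_lt (by omega), ZMod.val_cast_of_lt (by omega)] at this, fun e => by rw [e]⟩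

include hR in
theorem cast_eq_neg_iff {a b : ℕ} (ha : a ≤ N / 2) (hb : b ≤ N / 2) :
    (a : ZMod N) = -(b : ZMod N) ↔ (a = 0 ∧ b = 0) ∨ (a = N / 2 ∧ b = N / 2) := by
  have := hR.four_dvd
  rw [eq_neg_iff_add_eq_zero, ← Nat.cast_add, ZMod.natCast_eq_zero_iff]
  constructor
  · rintro ⟨c, hc⟩
    rcases c with _ | _ | c
    · omega
    · omega
    · have h4 := hR.four_le
      have : 2 * N ≤ N * (c + 1 + 1) := by rw [Nat.mul_comm 2]; exact Nat.mul_le_mul_left N (by omega)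
      omega
  · rintro (⟨rfl, rfl⟩ | ⟨rfl, rfl⟩)
    · exact dvd_zero N
    · exact ⟨1, by omega⟩

/-- The multiplicities at natural indices. -/
noncomputable def mu (χ : Cfsg.IrrCharacter G) (i : ℕ) : ℤ := mult hζ hR.order χ (i : ZMod N)

theorem mu_one (i : ℕ) (hi : i ≤ N / 2) : mu hR hζ (oneChar G) i = if i = 0 then 1 else 0 := by
  rw [mu, mult_one, ← Nat.cast_zero]
  exact if_congr (cast_eq_iff hR hi (Nat.zero_le _)) rfl rfl

include hM in
theorem inner_mu {i k i' k' : ℕ} (hi : i ≤ N / 2) (hk : k ≤ N / 2) (hi' : i' ≤ N / 2)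
    (hk' : k' ≤ N / 2) (h : Even i ↔ Even k) :
    ∑ t : ↥(blk G M), (mu hR hζ t.1 i - mu hR hζ t.1 k) * (mu hR hζ t.1 i' - mu hR hζ t.1 k') =
      ((if i' = i then (1 : ℤ) else 0) - (if k' = i then 1 else 0) - (if i' = k then 1 else 0) +
        (if k' = k then 1 else 0)) +
      ((if (i' = 0 ∧ i = 0) ∨ (i' = N / 2 ∧ i = N / 2) then (1 : ℤ) else 0) -
        (if (k' = 0 ∧ i = 0) ∨ (k' = N / 2 ∧ i = N / 2) then 1 else 0) -
        (if (i' = 0 ∧ k = 0) ∨ (i' = N / 2 ∧ k = N / 2) then 1 else 0) +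
        (if (k' = 0 ∧ k = 0) ∨ (k' = N / 2 ∧ k = N / 2) then 1 else 0)) := by
  rw [Finset.sum_coe_sort (blk G M) (fun χ =>
    (mu hR hζ χ i - mu hR hζ χ k) * (mu hR hζ χ i' - mu hR hζ χ k'))]
  simp only [mu]
  rw [inner_diff hζ hR M hM (cast_half_mul hR h)]
  simp only [cast_eq_iff hR hi' hi, cast_eq_iff hR hk' hi, cast_eq_iff hR hi' hk,
    cast_eq_iff hR hk' hk, cast_eq_neg_iff hR hi' hi, cast_eq_neg_iff hR hk' hi,
    cast_eq_neg_iff hR hi' hk, cast_eq_neg_iff hR hk' hk]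

/-- The degree through the multiplicities. -/
noncomputable def deg (χ : Cfsg.IrrCharacter G) : ℤ :=
  mu hR hζ χ 0 + mu hR hζ χ (N / 2) + ∑ i ∈ Finset.Ico 1 (N / 2), 2 * mu hR hζ χ i

/-- The value at the central involution through the multiplicities. -/
noncomputable def inv (χ : Cfsg.IrrCharacter G) : ℤ :=
  mu hR hζ χ 0 + mu hR hζ χ (N / 2) + ∑ i ∈ Finset.Ico 1 (N / 2), 2 * (-1) ^ i * mu hR hζ χ i

include hM in
theorem apply_one_eq {χ : Cfsg.IrrCharacter G} (hχ : χ ∈ blk G M) :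
    (χ : G → ℂ) 1 = (deg hR hζ χ : ℂ) := by
  have h := apply_rot_fold hζ hR M hM hχ 0
  rw [rot_zero] at h
  rw [h]
  simp only [mul_zero, neg_zero, AddChar.map_zero_eq_one, mul_one, deg, mu, Nat.cast_zero]
  push_cast
  congr 1
  exact Finset.sum_congr rfl fun i _ => by ring

include hM in
theorem apply_half_eq {χ : Cfsg.IrrCharacter G} (hχ : χ ∈ blk G M) :
    (χ : G → ℂ) (σ ^ (N / 2)) = (inv hR hζ χ : ℂ) := by
  rw [← rot_natCast hR.order, apply_rot_fold hζ hR M hM hχ, expn_mul_half hR]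
  have he : Even (N / 2) := by
    have := hR.four_dvd
    rw [Nat.even_iff]; omega
  simp only [he.neg_one_pow, mul_one, inv, mu, Nat.cast_zero, expn_mul_half hR,
    AddChar.map_neg_eq_inv]
  push_cast
  congr 1
  refine Finset.sum_congr rfl fun i _ => ?_
  rcases Nat.even_or_odd i with e | e
  · simp [e.neg_one_pow]; ring
  · simp [e.neg_one_pow]; ring

include hM in
theorem sum_mu_odd {i k : ℕ} (h : Even i ↔ Even k) {ρ : G} (hρ : Odd (orderOf ρ)) :
    ∑ t : ↥(blk G M), ((mu hR hζ t.1 i - mu hR hζ t.1 k : ℤ) : ℂ) * (t.1 : G → ℂ) ρ = 0 := by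
  rw [Finset.sum_coe_sort (blk G M) (fun χ =>
    ((mu hR hζ χ i - mu hR hζ χ k : ℤ) : ℂ) * (χ : G → ℂ) ρ)]
  exact sum_diff_odd hζ hR M hM (cast_half_mul hR h) hρ

include hM in
theorem sum_mu_deg {i k : ℕ} (h : Even i ↔ Even k) :
    ∑ t : ↥(blk G M), deg hR hζ t.1 * (mu hR hζ t.1 i - mu hR hζ t.1 k) = 0 := by
  apply Int.cast_injective (α := ℂ)
  rw [Int.cast_sum, Int.cast_zero]
  refine Eq.trans (Finset.sum_congr rfl fun t _ => ?_) (sum_mu_odd hR M hM hζ h (ρ := 1) (by simp))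
  rw [Int.cast_mul, apply_one_eq hR M hM hζ t.2, mul_comm]

include hM in
theorem sum_mu_inv {i k : ℕ} (h : Even i ↔ Even k) :
    ∑ t : ↥(blk G M), inv hR hζ t.1 * (mu hR hζ t.1 i - mu hR hζ t.1 k) = 0 := by
  apply Int.cast_injective (α := ℂ)
  rw [Int.cast_sum, Int.cast_zero]
  refine Eq.trans ?_ ((Finset.sum_coe_sort (blk G M) (fun χ : Cfsg.IrrCharacter G =>
    ((mu hR hζ χ i - mu hR hζ χ k : ℤ) : ℂ) *
      conj ((χ : G → ℂ) (rot σ ((N / 2 : ℕ) : ZMod N))))).trans
    (sum_diff_half hζ hR M hM (cast_half_mul hR h)))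
  refine Finset.sum_congr rfl fun t _ => ?_
  rw [rot_natCast hR.order, apply_half_eq hR M hM hζ t.2, map_intCast, Int.cast_mul, mul_comm]

include hR hM in
theorem sum_half_odd {ρ : G} (hρ : Odd (orderOf ρ)) :
    ∑ t : ↥(blk G M), (inv hR hζ t.1 : ℂ) * (t.1 : G → ℂ) ρ = 0 := by
  haveI := hM.2.1
  have h := weak_orthogonality hM (isPBlock_principalBlock (M := M) (G := G))
    (Nat.two_dvd_ne_zero.2 (Nat.odd_iff.1 hρ)) (show 2 ∣ orderOf (σ ^ (N / 2)) by rw [hR.orderOf_half])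
  rw [finsum_mem_eq_finite_toFinset_sum _ (Set.toFinite _)] at h
  refine Eq.trans ?_ ((Finset.sum_coe_sort (blk G M) (fun χ : Cfsg.IrrCharacter G =>
    (χ : G → ℂ) ρ * conj ((χ : G → ℂ) (σ ^ (N / 2))))).trans h)
  refine Finset.sum_congr rfl fun t _ => ?_
  rw [apply_half_eq hR M hM hζ t.2, map_intCast, mul_comm]

include hM in
theorem oneChar_mem : oneChar G ∈ blk G M := by
  haveI := hM.2.1
  exact (mem_blk M).2 oneChar_mem_principalBlock

/-- The numerical data of the block. -/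
noncomputable def data : Data ↥(blk G M) (N / 2) where
  one := ⟨oneChar G, oneChar_mem M hM⟩
  f t := deg hR hζ t.1
  j t := inv hR hζ t.1
  ph t := mu hR hζ t.1 0 - mu hR hζ t.1 (N / 2)
  P i t := mu hR hζ t.1 0 - mu hR hζ t.1 i
  Q i t := mu hR hζ t.1 i - mu hR hζ t.1 1
  h_pow := exists_half_pow hR
  f_pos t := by
    obtain ⟨n, hn, he⟩ := exists_degree_pos t.1
    have h := apply_one_eq hR M hM hζ t.2
    rw [he] at h
    have : (n : ℤ) = deg hR hζ t.1 := by exact_mod_cast h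
    omega
  f_one := by
    have h := apply_one_eq hR M hM hζ (oneChar_mem M hM)
    rw [oneChar_apply] at h
    exact_mod_cast h.symm
  j_one := by
    have h := apply_half_eq hR M hM hζ (oneChar_mem M hM)
    rw [oneChar_apply] at h
    exact_mod_cast h.symm
  ph_one := by
    have := hR.four_le
    simp only [mu_one hR hζ 0 (Nat.zero_le _), mu_one hR hζ (N / 2) le_rfl]
    rw [if_neg (show ¬ (N / 2 = 0) by omega)]; simp
  P_one i hi := by
    obtain ⟨⟨h1, h2⟩, -⟩ := mem_Ev.1 hi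
    simp only [mu_one hR hζ 0 (Nat.zero_le _), mu_one hR hζ i h2.le]
    rw [if_neg (show ¬ (i = 0) by omega)]; simp
  Q_one i hi := by
    obtain ⟨⟨h1, h2⟩, -⟩ := mem_Od.1 hi
    simp only [mu_one hR hζ 1 (by omega), mu_one hR hζ i h2.le]
    rw [if_neg (by omega), if_neg (by omega), sub_zero]
  ph_sq := by
    have h4 := hR.four_le
    have hd := hR.four_dvd
    rw [inner_mu hR M hM hζ (Nat.zero_le _) le_rfl (Nat.zero_le _) le_rfl
      (by simp [Nat.even_iff]; omega)]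
    simp (disch := omega) only [and_self, true_or, or_true, and_true, true_and, if_true, if_pos, if_neg, add_zero, sub_zero, zero_add]
    all_goals rfl
  P_sq i hi := by
    obtain ⟨⟨h1, h2⟩, h3⟩ := mem_Ev.1 hi
    rw [inner_mu hR M hM hζ (Nat.zero_le _) h2.le (Nat.zero_le _) h2.le (by simp [h3])]
    simp (disch := omega) only [and_self, true_or, or_true, and_true, true_and, if_true, if_pos, if_neg, add_zero, sub_zero, zero_add]
    all_goals rfl
  Q_sq i hi := by
    obtain ⟨⟨h1, h2⟩, h3⟩ := mem_Od.1 hi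
    rw [inner_mu hR M hM hζ h2.le (by omega) h2.le (by omega) (by simp [Nat.not_even_iff_odd.2 h3])]
    simp (disch := omega) only [and_self, true_or, or_true, and_true, true_and, if_true, if_pos, if_neg, add_zero, sub_zero, zero_add]
    all_goals rfl
  ph_P i hi := by
    obtain ⟨⟨h1, h2⟩, h3⟩ := mem_Ev.1 hi
    have hd := hR.four_dvd
    rw [inner_mu hR M hM hζ (Nat.zero_le _) le_rfl (Nat.zero_le _) h2.le
      (by simp [Nat.even_iff]; omega)]
    simp (disch := omega) only [and_self, true_or, or_true, and_true, true_and, if_true, if_pos, if_neg, add_zero, sub_zero, zero_add]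
    all_goals rfl
  P_P i hi l hl hne := by
    obtain ⟨⟨h1, h2⟩, h3⟩ := mem_Ev.1 hi
    obtain ⟨⟨l1, l2⟩, -⟩ := mem_Ev.1 hl
    rw [inner_mu hR M hM hζ (Nat.zero_le _) h2.le (Nat.zero_le _) l2.le (by simp [h3])]
    simp (disch := omega) only [and_self, true_or, or_true, and_true, true_and, if_true, if_pos, if_neg, add_zero, sub_zero, zero_add]
    all_goals rfl
  Q_Q i hi l hl hne := by
    obtain ⟨⟨h1, h2⟩, h3⟩ := mem_Od.1 hi
    obtain ⟨⟨l1, l2⟩, -⟩ := mem_Od.1 hl
    rw [inner_mu hR M hM hζ h2.le (by omega) l2.le (by omega) (by simp [Nat.not_even_iff_odd.2 h3])]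
    simp (disch := omega) only [and_self, true_or, or_true, and_true, true_and, if_true, if_pos, if_neg, add_zero, sub_zero, zero_add]
    all_goals rfl
  ph_Q i hi := by
    obtain ⟨⟨h1, h2⟩, h3⟩ := mem_Od.1 hi
    have hd := hR.four_dvd
    rw [inner_mu hR M hM hζ (Nat.zero_le _) le_rfl h2.le (by omega)
      (by simp [Nat.even_iff]; omega)]
    rw [Nat.odd_iff] at h3
    simp (disch := omega) only [and_self, true_or, or_true, and_true, true_and, if_true, if_pos, if_neg, add_zero, sub_zero, zero_add]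
    all_goals rfl
  P_Q i hi l hl := by
    obtain ⟨⟨h1, h2⟩, h3⟩ := mem_Ev.1 hi
    obtain ⟨⟨l1, l2⟩, h4⟩ := mem_Od.1 hl
    rw [inner_mu hR M hM hζ (Nat.zero_le _) h2.le l2.le (by omega) (by simp [h3])]
    rw [Nat.even_iff] at h3
    rw [Nat.odd_iff] at h4
    simp (disch := omega) only [and_self, true_or, or_true, and_true, true_and, if_true, if_pos, if_neg, add_zero, sub_zero, zero_add]
    all_goals rfl
  j_sq := by
    have hd := hR.four_dvd
    apply Int.cast_injective (α := ℂ)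
    rw [Int.cast_sum]
    have h := hR.sum_half M hM
    rw [finsum_mem_eq_finite_toFinset_sum _ (Set.toFinite _)] at h
    refine Eq.trans (Finset.sum_congr rfl fun t _ => ?_) (((Finset.sum_coe_sort (blk G M)
      (fun χ : Cfsg.IrrCharacter G => (χ : G → ℂ) (σ ^ (N / 2)) *
        conj ((χ : G → ℂ) (σ ^ (N / 2))))).trans h).trans ?_)
    · rw [apply_half_eq hR M hM hζ t.2, map_intCast, Int.cast_mul]
    · rw [show 2 * N = 4 * (N / 2) by omega]; push_cast; rfl
  f_ph := sum_mu_deg hR M hM hζ (by have := hR.four_dvd; simp [Nat.even_iff]; omega)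
  f_P i hi := sum_mu_deg hR M hM hζ (by simp [(mem_Ev.1 hi).2])
  f_Q i hi := sum_mu_deg hR M hM hζ (by simp [Nat.not_even_iff_odd.2 (mem_Od.1 hi).2])
  f_j := by
    apply Int.cast_injective (α := ℂ)
    rw [Int.cast_sum, Int.cast_zero]
    refine Eq.trans (Finset.sum_congr rfl fun t _ => ?_)
      (sum_half_odd hR M hM hζ (ρ := 1) (by simp))
    rw [Int.cast_mul, apply_one_eq hR M hM hζ t.2, mul_comm]
  j_ph := sum_mu_inv hR M hM hζ (by have := hR.four_dvd; simp [Nat.even_iff]; omega)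
  j_P i hi := sum_mu_inv hR M hM hζ (by simp [(mem_Ev.1 hi).2])
  j_Q i hi := sum_mu_inv hR M hM hζ (by simp [Nat.not_even_iff_odd.2 (mem_Od.1 hi).2])
  j_ne t := fun h => hR.half_apply_ne_zero M hM ((mem_blk M).1 t.2)
    (by rw [apply_half_eq hR M hM hζ t.2, h, Int.cast_zero])
  four t := by
    simp only [deg, inv, add_sub_add_left_eq_sub, ← Finset.sum_sub_distrib]
    refine Finset.dvd_sum fun i _ => ?_
    rcases Nat.even_or_odd i with e | e
    · simp [e.neg_one_pow]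
    · exact ⟨mu hR hζ t.1 i, by rw [e.neg_one_pow]; ring⟩
  cong t := by
    obtain ⟨k, hk⟩ := exists_half_pow hR
    have h2 : 2 ≤ N / 2 := by rw [hk, pow_succ]; have := Nat.one_le_two_pow (n := k); omega
    obtain ⟨m, hm⟩ : ∃ m, N / 2 = 2 * m + 2 := ⟨2 ^ k - 1, by
      rw [hk, pow_succ]; have := Nat.one_le_two_pow (n := k); omega⟩
    refine ⟨mu hR hζ t.1 0 + mu hR hζ t.1 1, ?_⟩
    simp only [deg]
    rw [Ico_split h2, Finset.sum_union (disjoint_split _), Finset.sum_insert (by simp [mem_Od]),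
      ← Finset.mul_sum, ← Finset.mul_sum, Finset.sum_sub_distrib, Finset.sum_sub_distrib,
      Finset.sum_const, Finset.sum_const, show (Ev (N / 2)).card = m by rw [hm, card_Ev],
      show (Od (N / 2)).card = m by rw [hm, card_Od], show ((N / 2 : ℕ) : ℤ) = 2 * (m : ℤ) + 2 by
        exact_mod_cast hm, nsmul_eq_mul, nsmul_eq_mul]
    ring

include hM in
/-- The values on the rotations. -/
theorem values (C : Config (data hR M hM hζ)) {l : ℕ} (hl0 : 0 < l) (hlN : l < N) :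
    (C.r.1 : G → ℂ) (σ ^ l) = C.d1 ∧ (C.b.1 : G → ℂ) (σ ^ l) = C.d2 * (-1) ^ (l + 1) ∧
      (C.c.1 : G → ℂ) (σ ^ l) = C.d3 * (-1) ^ (l + 1) ∧ ∀ i ∈ Finset.Ico 1 (N / 2),
        ((C.chi i).1 : G → ℂ) (σ ^ l) = C.d1 * (ζ ^ (i * l) + (ζ ^ (i * l))⁻¹) := by
  have hd := hR.four_dvd
  have h4 := hR.four_le
  by_cases hlh : l = N / 2
  · subst hlh
    have he : Odd (N / 2 + 1) := by rw [Nat.odd_iff]; omega
    rw [he.neg_one_pow, apply_half_eq hR M hM hζ C.r.2, apply_half_eq hR M hM hζ C.b.2,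
      apply_half_eq hR M hM hζ C.c.2]
    refine ⟨by exact_mod_cast congrArg (fun z : ℤ => (z : ℂ)) C.j_r, ?_, ?_, fun i hi => ?_⟩
    · rw [show inv hR hζ C.b.1 = -C.d2 from C.j_b]; push_cast; ring
    · rw [show inv hR hζ C.c.1 = -C.d3 from C.j_c]; push_cast; ring
    rw [apply_half_eq hR M hM hζ (C.chi i).2, show inv hR hζ (C.chi i).1 =
      if Even i then 2 * C.d1 else -(2 * C.d1) from C.j_chi i hi, mul_comm i, pow_mul,
      (zeta_half hR).resolve_right (not_not.2 hζ)]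
    rcases Nat.even_or_odd i with e | e
    · rw [if_pos e, e.neg_one_pow]; push_cast; rw [inv_one]; ring
    · rw [if_neg (Nat.not_even_iff_odd.2 e), e.neg_one_pow]; push_cast; rw [inv_neg, inv_one]; ring
  set x : ZMod N := (l : ZMod N) with hxdef
  set e := expn hζ with he'
  set ε := e (((N / 2 : ℕ) : ZMod N) * x) with hε
  set Cc : ℕ → ℂ := fun i => e ((i : ZMod N) * x) + e (-((i : ZMod N) * x)) with hCc
  have hεl : ε = (-1) ^ l := by rw [hε, mul_comm, hxdef, he', expn_mul_half hR]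
  have hx0 : x ≠ 0 := fun e' => by
    have := Nat.le_of_dvd hl0 ((ZMod.natCast_eq_zero_iff l N).1 e')
    omega
  have hxh : x + ((N / 2 : ℕ) : ZMod N) ≠ 0 := fun e' => by
    rw [hxdef, ← Nat.cast_add, ZMod.natCast_eq_zero_iff] at e'
    obtain ⟨c, hc⟩ := e'
    rcases c with _ | _ | c
    · omega
    · omega
    · nlinarith [Nat.div_mul_le_self N 2]
  have h2 : 2 ≤ N / 2 := by omega
  have s1 : 1 + ε + (∑ i ∈ Ev (N / 2), Cc i + (Cc 1 + ∑ i ∈ Od (N / 2), Cc i)) = 0 := by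
    have h := sum_expn hζ x
    rw [if_neg hx0, sum_fold (dvd_trans (by norm_num) hd), mul_zero, AddChar.map_zero_eq_one,
      mul_comm x, Ico_split h2, Finset.sum_union (disjoint_split _),
      Finset.sum_insert (by simp [mem_Od])] at h
    refine Eq.trans ?_ h
    simp only [hCc, hε, he', mul_neg, neg_mul, mul_comm x]
  have s2 : 1 + ε + (∑ i ∈ Ev (N / 2), Cc i - (Cc 1 + ∑ i ∈ Od (N / 2), Cc i)) = 0 := by
    have h := sum_expn hζ (x + ((N / 2 : ℕ) : ZMod N))
    rw [if_neg hxh, sum_fold (dvd_trans (by norm_num) hd), mul_zero, AddChar.map_zero_eq_one,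
      Ico_split h2, Finset.sum_union (disjoint_split _),
      Finset.sum_insert (by simp [mem_Od])] at h
    have hterm : ∀ i : ℕ, e ((x + ((N / 2 : ℕ) : ZMod N)) * (i : ZMod N)) +
        e ((x + ((N / 2 : ℕ) : ZMod N)) * -(i : ZMod N)) = (-1) ^ i * Cc i := by
      intro i
      rw [show (x + ((N / 2 : ℕ) : ZMod N)) * (i : ZMod N) =
          (i : ZMod N) * x + (i : ZMod N) * ((N / 2 : ℕ) : ZMod N) by ring,
        show (x + ((N / 2 : ℕ) : ZMod N)) * -(i : ZMod N) =
          -((i : ZMod N) * x) + -((i : ZMod N) * ((N / 2 : ℕ) : ZMod N)) by ring,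
        AddChar.map_add_eq_mul, AddChar.map_add_eq_mul,
        AddChar.map_neg_eq_inv e ((i : ZMod N) * ((N / 2 : ℕ) : ZMod N)), he', expn_mul_half hR,
        ← inv_pow, inv_neg, inv_one]
      simp only [hCc, he']
      ring
    simp only [← he', hterm] at h
    rw [Finset.sum_congr rfl fun i hi => by rw [(mem_Ev.1 hi).2.neg_one_pow, one_mul],
      Finset.sum_congr rfl (s₁ := Od (N / 2)) fun i hi => by
        rw [(mem_Od.1 hi).2.neg_one_pow, neg_one_mul],
      Finset.sum_neg_distrib, pow_one, show e ((x + ((N / 2 : ℕ) : ZMod N)) * ((N / 2 : ℕ) : ZMod N))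
        = ε by
      rw [hε, add_mul, AddChar.map_add_eq_mul, he', expn_mul_half hR _ (N / 2),
        (show Even (N / 2) by rw [Nat.even_iff]; omega).neg_one_pow, mul_one, mul_comm x]] at h
    linear_combination h
  have gen : ∀ t : ↥(blk G M), (t.1 : G → ℂ) (σ ^ l) =
      -((data hR M hM hζ).ph t : ℂ) * ε - ∑ i ∈ Ev (N / 2), ((data hR M hM hζ).P i t : ℂ) * Cc i +
        ∑ i ∈ Od (N / 2), ((data hR M hM hζ).Q i t : ℂ) * Cc i := by
    intro t
    rw [← rot_natCast hR.order, apply_rot_fold hζ hR M hM t.2, Ico_split h2,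
      Finset.sum_union (disjoint_split _), Finset.sum_insert (by simp [mem_Od])]
    simp only [data, mu, Int.cast_sub, sub_mul, Finset.sum_sub_distrib, ← Finset.mul_sum,
      Nat.cast_zero]
    rw [← hε]
    simp only [hCc, he'] at s1 s2 ⊢
    linear_combination ((mult hζ hR.order t.1 0 : ℂ) / 2) * (s1 + s2) +
      ((mult hζ hR.order t.1 ((1 : ℕ) : ZMod N) : ℂ) / 2) * (s1 - s2)
  have hC : ∀ i : ℕ, Cc i = ζ ^ (i * l) + (ζ ^ (i * l))⁻¹ := fun i => by
    simp only [hCc, hxdef, he', AddChar.map_neg_eq_inv, ← Nat.cast_mul, expn_natCast]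
  have hEv : ∑ i ∈ Ev (N / 2), Cc i = -1 - ε := by linear_combination (s1 + s2) / 2
  have hOd : ∑ i ∈ Od (N / 2), Cc i = -Cc 1 := by linear_combination (s1 - s2) / 2
  refine ⟨?_, ?_, ?_, fun i hi => ?_⟩
  · rw [gen, C.ph_r, Finset.sum_congr rfl (g := fun i => (C.d1 : ℂ) * Cc i) fun i hi => by
      rw [C.P_r i hi], Finset.sum_eq_zero (s := Od (N / 2)) fun i hi => by
      rw [C.Q_r i hi, Int.cast_zero, zero_mul], ← Finset.mul_sum, hEv]
    ring
  · rw [gen, C.ph_b, Finset.sum_eq_zero (s := Ev (N / 2)) fun i hi => by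
      rw [C.P_b i hi, Int.cast_zero, zero_mul], Finset.sum_eq_zero (s := Od (N / 2)) fun i hi => by
      rw [C.Q_b i hi, Int.cast_zero, zero_mul], hεl]
    ring
  · rw [gen, C.ph_c, Finset.sum_eq_zero (s := Ev (N / 2)) fun i hi => by
      rw [C.P_c i hi, Int.cast_zero, zero_mul], Finset.sum_eq_zero (s := Od (N / 2)) fun i hi => by
      rw [C.Q_c i hi, Int.cast_zero, zero_mul], hεl]
    ring
  · rw [gen, C.ph_chi i hi, Finset.sum_congr rfl (g := fun a => if i = a then -(C.d1 : ℂ) * Cc a else 0)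
      fun a ha => by rw [C.P_chi a ha i hi]; split_ifs <;> simp,
      Finset.sum_congr rfl (s₁ := Od (N / 2)) (g := fun a => (C.d1 : ℂ) *
        ((if i = a then Cc a else 0) - (if i = 1 then Cc a else 0))) fun a ha => by
        rw [C.Q_chi a ha i hi]; split_ifs <;> push_cast <;> ring,
      ← Finset.mul_sum, Finset.sum_sub_distrib, Finset.sum_ite_eq, Finset.sum_ite_eq, ← hC i]
    rw [Ico_split h2, Finset.mem_union, Finset.mem_insert] at hi
    have hdis := Finset.disjoint_left.1 (disjoint_split (N / 2))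
    rcases hi with hi | hi | hi
    · have h1 := hdis hi
      rw [Finset.mem_insert, not_or] at h1
      rw [if_pos hi, if_neg h1.2]
      simp only [if_neg h1.1, Finset.sum_const_zero]
      push_cast
      ring
    · subst hi
      have h1 : (1 : ℕ) ∉ Od (N / 2) := by simp [mem_Od]
      have h1' : (1 : ℕ) ∉ Ev (N / 2) := by simp [mem_Ev]
      rw [if_neg h1', if_neg h1]
      simp only [if_true, hOd]
      push_cast
      ring
    · have h1 : i ∉ Ev (N / 2) := fun e => hdis e (Finset.mem_insert_of_mem hi)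
      have h1' : i ≠ 1 := by
        obtain ⟨⟨a, -⟩, -⟩ := mem_Od.1 hi
        omega
      rw [if_neg h1, if_pos hi]
      simp only [if_neg h1', Finset.sum_const_zero]
      push_cast
      ring

include hM in
/-- The relations on the elements of odd order. -/
theorem relations (C : Config (data hR M hM hζ)) {ρ : G} (hρ : Odd (orderOf ρ)) :
    1 + (C.d1 : ℂ) * (C.r.1 : G → ℂ) ρ = -(C.d2 : ℂ) * (C.b.1 : G → ℂ) ρ - C.d3 * (C.c.1 : G → ℂ) ρ ∧
      ∀ i ∈ Finset.Ico 1 (N / 2),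
        1 + (C.d1 : ℂ) * (C.r.1 : G → ℂ) ρ = C.d1 * ((C.chi i).1 : G → ℂ) ρ := by
  have hd := hR.four_dvd
  have h4 := hR.four_le
  have h2 : 2 ≤ N / 2 := by omega
  have ev1 : ((data hR M hM hζ).one.1 : G → ℂ) ρ = 1 := rfl
  have hph : ∑ t : ↥(blk G M), ((data hR M hM hζ).ph t : ℂ) * (t.1 : G → ℂ) ρ = 0 :=
    sum_mu_odd hR M hM hζ (by simp [Nat.even_iff]; omega) hρ
  have hP : ∀ i ∈ Ev (N / 2), ∑ t : ↥(blk G M), ((data hR M hM hζ).P i t : ℂ) * (t.1 : G → ℂ) ρ = 0 := fun i hi =>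
    sum_mu_odd hR M hM hζ (by simp [(mem_Ev.1 hi).2]) hρ
  have hQ : ∀ i ∈ Od (N / 2), ∑ t : ↥(blk G M), ((data hR M hM hζ).Q i t : ℂ) * (t.1 : G → ℂ) ρ = 0 := fun i hi =>
    sum_mu_odd hR M hM hζ (by simp [Nat.not_even_iff_odd.2 (mem_Od.1 hi).2]) hρ
  have hJ : ∑ t : ↥(blk G M), ((data hR M hM hζ).j t : ℂ) * (t.1 : G → ℂ) ρ = 0 := sum_half_odd hR M hM hζ hρ
  have hd1 : (C.d1 : ℂ) ≠ 0 := by rcases C.d1_pm with e | e <;> rw [e] <;> norm_num
  set A := 1 + (C.d1 : ℂ) * (C.r.1 : G → ℂ) ρ with hA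
  rw [C.sum_eq, (data hR M hM hζ).ph_one, C.ph_r, C.ph_b, C.ph_c, Finset.sum_eq_zero (fun i hi => by
    rw [C.ph_chi i hi, Int.cast_zero, zero_mul]), ev1] at hph
  push_cast at hph
  have e1 : A = -(C.d2 : ℂ) * (C.b.1 : G → ℂ) ρ - C.d3 * (C.c.1 : G → ℂ) ρ := by
    rw [hA]; linear_combination hph
  have eP : ∀ i ∈ Ev (N / 2), A = C.d1 * ((C.chi i).1 : G → ℂ) ρ := by
    intro i hi
    have h := hP i hi
    have hi' : i ∈ Finset.Ico 1 (N / 2) := by
      rw [Ico_split h2]; exact Finset.mem_union_left _ hi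
    rw [C.sum_eq, (data hR M hM hζ).P_one i hi, C.P_r i hi, C.P_b i hi, C.P_c i hi, Finset.sum_eq_single i
      (fun l hl hne => by rw [C.P_chi i hi l hl, if_neg hne, Int.cast_zero, zero_mul])
      (fun e => absurd hi' e), C.P_chi i hi i hi', if_pos rfl, ev1] at h
    push_cast at h
    rw [hA]; linear_combination h
  have eQ : ∀ i ∈ Od (N / 2), ((C.chi i).1 : G → ℂ) ρ = ((C.chi 1).1 : G → ℂ) ρ := by
    intro i hi
    have h := hQ i hi
    have hi' : i ∈ Finset.Ico 1 (N / 2) := by rw [Ico_split h2]; simp [hi]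
    have h1' : 1 ∈ Finset.Ico 1 (N / 2) := Finset.mem_Ico.2 ⟨le_rfl, by omega⟩
    have hne : i ≠ 1 := by
      obtain ⟨⟨a, -⟩, -⟩ := mem_Od.1 hi
      omega
    rw [C.sum_eq, (data hR M hM hζ).Q_one i hi, C.Q_r i hi, C.Q_b i hi, C.Q_c i hi,
      Finset.sum_eq_add (a := i) (b := 1) hne
        (fun l hl hl' => by rw [C.Q_chi i hi l hl, if_neg hl'.1, if_neg hl'.2]; simp)
        (fun e => absurd hi' e) (fun e => absurd h1' e),
      C.Q_chi i hi i hi', C.Q_chi i hi 1 h1', if_pos rfl, if_neg hne, if_neg hne.symm] at h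
    simp only [if_true] at h
    push_cast at h
    exact mul_left_cancel₀ hd1 (by linear_combination h)
  have e1' : A = C.d1 * ((C.chi 1).1 : G → ℂ) ρ := by
    obtain ⟨k, hk⟩ := exists_half_pow hR
    obtain ⟨m, hm⟩ : ∃ m, N / 2 = 2 * m + 2 := ⟨2 ^ k - 1, by
      rw [hk, pow_succ]; have := Nat.one_le_two_pow (n := k); omega⟩
    rw [C.sum_eq, (data hR M hM hζ).j_one, C.j_r, C.j_b, C.j_c, Ico_split h2, Finset.sum_union (disjoint_split _),
      Finset.sum_congr rfl (g := fun _ => (2 : ℂ) * A) (fun i hi => by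
        rw [C.j_chi i (by rw [Ico_split h2]; exact Finset.mem_union_left _ hi),
          if_pos (mem_Ev.1 hi).2, eP i hi]; push_cast; ring),
      Finset.sum_insert (by simp [mem_Od]),
      C.j_chi 1 (Finset.mem_Ico.2 ⟨le_rfl, by omega⟩), if_neg (by decide),
      Finset.sum_congr rfl (s₁ := Od (N / 2))
        (g := fun _ => -(2 * (C.d1 : ℂ)) * ((C.chi 1).1 : G → ℂ) ρ) (fun i hi => by
        rw [C.j_chi i (by rw [Ico_split h2]; simp [hi]),
          if_neg (Nat.not_even_iff_odd.2 (mem_Od.1 hi).2), eQ i hi]; push_cast; ring),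
      Finset.sum_const, Finset.sum_const, show (Ev (N / 2)).card = m by rw [hm, card_Ev],
      show (Od (N / 2)).card = m by rw [hm, card_Od], nsmul_eq_mul, nsmul_eq_mul, ev1] at hJ
    push_cast at hJ
    have hm1 : (m : ℂ) + 1 ≠ 0 := by exact_mod_cast Nat.succ_ne_zero m
    refine mul_left_cancel₀ hm1 ?_
    rw [hA] at hJ ⊢
    linear_combination hJ / 2 + hph / 2
  refine ⟨e1, fun i hi => ?_⟩
  rw [Ico_split h2, Finset.mem_union, Finset.mem_insert] at hi
  rcases hi with hi | rfl | hi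
  · exact eP i hi
  · exact e1'
  · rw [eQ i hi]; exact e1'

end Cfsg.Agent.Lib.DihedralBlock.Main
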