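/-
Counting pairs of involutions in a group with dihedral Sylow 2-subgroup and one class of
involutions.
-/
import Cfsg.Agent.Lib.DihedralBlock.Sections
import Cfsg.Agent.Lib.Characters.Kernel
import Cfsg.Agent.Lib.H80.ClassMult
import Cfsg.Agent.Lib.Cores.Pi

set_option autoImplicit false

namespace Cfsg.Agent.Lib.DihedralBlock.Order

open Subgroup Cfsg.Agent.Lib.Characters.Basic Cfsg.Agent.Lib.Characters.Complete
  Cfsg.Agent.Lib.DihedralBlock.Sections
open scoped ComplexConjugate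

universe u

attribute [local instance] Classical.propDecidable

variable {G : Type u} [Group G] [Finite G] {N : ℕ} {σ : G} {P : Sylow 2 G}

/-- An element of odd order in a group with a normal 2-complement lies in it. -/
theorem mem_core_of_odd {H : Type u} [Group H] [Finite H]
    (h : ∃ k : ℕ, (Cfsg.pPrimeCore 2 H).index = 2 ^ k) {x : H} (hx : Odd (orderOf x)) :
    x ∈ Cfsg.pPrimeCore 2 H := by
  haveI := Cfsg.pPrimeCore_normal 2 H
  obtain ⟨k, hk⟩ := h
  refine (QuotientGroup.eq_one_iff x).1 (orderOf_eq_one_iff.1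
    (Nat.eq_one_of_dvd_coprimes (a := 2 ^ k) (b := orderOf x)
      ((Nat.coprime_two_left.2 hx).pow_left k) ?_ (orderOf_map_dvd (QuotientGroup.mk' _) x)))
  rw [← hk, Subgroup.index_eq_card]
  exact orderOf_dvd_natCard _

/-- On the principal block a character is constant on `z` times the odd elements commuting with `z`,
if the centraliser of `z` has a normal 2-complement. -/
theorem value_const (M : Ideal Cfsg.AlgInt) (hM : Cfsg.IsPModular 2 M) {z : G}
    (hz : ∃ k : ℕ, orderOf z = 2 ^ k) (hz1 : z ≠ 1)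
    (hidx : ∃ k : ℕ, (Cfsg.pPrimeCore 2 ↥(centralizer ({z} : Set G))).index = 2 ^ k)
    {u : G} (hzu : Commute z u) (hu : Odd (orderOf u)) {χ : Cfsg.IrrCharacter G}
    (hχ : χ ∈ Cfsg.principalBlock M G) : (χ : G → ℂ) (z * u) = (χ : G → ℂ) z := by
  haveI : Fact (Nat.Prime 2) := ⟨Nat.prime_two⟩
  haveI := hM.2.1
  set H := centralizer ({z} : Set G) with hH
  let zH : H := ⟨z, mem_centralizer_singleton_iff.2 rfl⟩
  let uH : H := ⟨u, mem_centralizer_singleton_iff.2 hzu.eq.symm⟩
  have hzc : ∀ w : H, Commute zH w := fun w =>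
    Subtype.ext (mem_centralizer_singleton_iff.1 w.2).symm
  have huo : ¬ 2 ∣ orderOf uH := by
    rw [← Subgroup.orderOf_coe, Nat.two_dvd_ne_zero, ← Nat.odd_iff]
    exact hu
  have huK : uH ∈ Cfsg.pPrimeCore 2 H :=
    mem_core_of_odd hidx (Nat.odd_iff.2 (Nat.two_dvd_ne_zero.1 huo))
  have hp1 : Cfsg.IsPPart 2 ((zH : H) : G) z := ⟨1, mul_one z, Commute.one_right z, hz, by simp⟩
  have hpu : Cfsg.IsPPart 2 ((zH * uH : H) : G) z :=
    ⟨u, rfl, hzu, hz, by rw [Nat.two_dvd_ne_zero, ← Nat.odd_iff]; exact hu⟩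
  have hu0 := (Cfsg.Agent.S0947.result 2 M hM z hz hz1 uH huo).2 hidx
  have hz0 := (Cfsg.Agent.S0947.result 2 M hM z hz hz1 1 (by simp)).2 hidx
  rw [OneMemClass.coe_one, mul_one] at hz0
  have hcross : ∑ᶠ ξ ∈ Cfsg.principalBlock M G, (ξ : G → ℂ) (z * u) * (ξ : G → ℂ) z⁻¹ =
      ((2 ^ (Nat.card H).factorization 2 : ℕ) : ℂ) := by
    have hsec := Cfsg.Agent.Lib.BrauerMap.PrincipalSection.sum_principal_section hM (zH * uH) zH hpu hp1
    rw [show ((zH * uH : H) : G) = z * u from rfl, show ((zH : H) : G) = z from rfl] at hsec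
    rw [hsec]
    obtain ⟨k, hk⟩ := hidx
    haveI := Cfsg.pPrimeCore_normal 2 ↥H
    have hK : ¬ 2 ∣ Nat.card (Cfsg.pPrimeCore 2 H) := Cfsg.Agent.Lib.Cores.not_dvd_card_pPrimeCore 2
    have hfac : (Nat.card H).factorization 2 = k := by
      rw [← (Cfsg.pPrimeCore 2 H).card_mul_index, hk,
        Nat.factorization_mul Nat.card_pos.ne' (pow_ne_zero _ two_ne_zero), Finsupp.add_apply,
        Nat.factorization_eq_zero_of_not_dvd hK, Nat.prime_two.factorization_pow,
        Finsupp.single_eq_same, zero_add]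
    rw [hfac, ← hk, ← Cfsg.Agent.Lib.BrauerMap.PrincipalSection.sum_sq_trivialOn (Cfsg.pPrimeCore 2 H),
      Cfsg.Agent.Lib.BrauerMap.PrincipalSection.principalBlock_eq_trivialOn hM
        (Cfsg.pPrimeCore 2 H) hK ⟨k, hk⟩]
    refine finsum_congr fun θ => finsum_congr fun hθ => ?_
    rw [(Cfsg.Agent.Lib.Characters.Kernel.apply_mul_of_apply_eq_one (isCharacter_irr θ)
      (hθ uH huK) zH).2]
    have h := Cfsg.Agent.Lib.BrauerMap.PrincipalSection.char_central_mul_mul_inv hzc θ 1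
    rw [mul_one, inv_one] at h
    exact h
  rw [finsum_mem_eq_finite_toFinset_sum _ (Set.toFinite _)] at hu0 hz0 hcross
  change ∑ ξ ∈ (Set.toFinite (Cfsg.principalBlock M G)).toFinset, ‖(ξ : G → ℂ) (z * u)‖ ^ 2 = _ at hu0
  set s := (Set.toFinite (Cfsg.principalBlock M G)).toFinset with hs
  have hre : ∑ ξ ∈ s, ((ξ : G → ℂ) (z * u) * conj ((ξ : G → ℂ) z)).re =
      ((2 ^ (Nat.card H).factorization 2 : ℕ) : ℝ) := by
    have h := congrArg Complex.re hcross
    rw [Complex.re_sum] at h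
    simp only [apply_inv (isCharacter_irr _), Complex.natCast_re] at h
    exact h
  have hzero : ∑ ξ ∈ s, ‖(ξ : G → ℂ) (z * u) - (ξ : G → ℂ) z‖ ^ 2 = 0 := by
    simp only [Complex.sq_norm, Complex.normSq_sub] at hu0 hz0 ⊢
    rw [Finset.sum_sub_distrib, Finset.sum_add_distrib, hu0, hz0, ← Finset.mul_sum, hre]
    ring
  have := (Finset.sum_eq_zero_iff_of_nonneg fun ξ _ => sq_nonneg _).1 hzero χ
    ((Set.Finite.mem_toFinset _).2 hχ)
  exact sub_eq_zero.1 (norm_eq_zero.1 (pow_eq_zero_iff two_ne_zero |>.1 this))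

/-- The odd core of the centraliser of the central involution, in `G`. -/
def kern (σ : G) (N : ℕ) : Subgroup G :=
  (Cfsg.pPrimeCore 2 ↥(centralizer ({σ ^ (N / 2)} : Set G))).map
    (centralizer ({σ ^ (N / 2)} : Set G)).subtype

theorem kern_le : kern σ N ≤ centralizer ({σ ^ (N / 2)} : Set G) := by
  rintro _ ⟨a, -, rfl⟩
  exact a.2

theorem kern_conj {c k : G} (hc : c ∈ centralizer ({σ ^ (N / 2)} : Set G)) (hk : k ∈ kern σ N) :
    c * k * c⁻¹ ∈ kern σ N := by
  obtain ⟨a, ha, rfl⟩ := hk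
  exact ⟨⟨c, hc⟩ * a * ⟨c, hc⟩⁻¹,
    (Cfsg.pPrimeCore_normal 2 _).conj_mem a ha _, rfl⟩

theorem kern_conj' {c k : G} (hc : c ∈ centralizer ({σ ^ (N / 2)} : Set G)) (hk : k ∈ kern σ N) :
    c⁻¹ * k * c ∈ kern σ N := by
  simpa using kern_conj (inv_mem hc) hk

theorem kern_odd {k : G} (hk : k ∈ kern σ N) : Odd (orderOf k) := by
  haveI : Fact (Nat.Prime 2) := ⟨Nat.prime_two⟩
  obtain ⟨a, ha, rfl⟩ := hk
  rw [Subgroup.coe_subtype, Subgroup.orderOf_coe, Nat.odd_iff, ← Nat.two_dvd_ne_zero]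
  exact fun h => Cfsg.Agent.Lib.Cores.not_dvd_card_pPrimeCore (G := ↥(centralizer ({σ ^ (N / 2)} : Set G))) 2
    (h.trans (Subgroup.orderOf_dvd_natCard _ ha))

theorem card_kern_odd : Odd (Nat.card (kern σ N)) := by
  haveI : Fact (Nat.Prime 2) := ⟨Nat.prime_two⟩
  rw [kern, Subgroup.card_map_of_injective Subtype.val_injective, Nat.odd_iff, ← Nat.two_dvd_ne_zero]
  exact Cfsg.Agent.Lib.Cores.not_dvd_card_pPrimeCore 2

theorem kern_sq {k : G} (hk : k ∈ kern σ N) (h : k * k = 1) : k = 1 := by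
  have h2 : orderOf k ∣ 2 := orderOf_dvd_of_pow_eq_one (by rw [pow_two]; exact h)
  exact orderOf_eq_one_iff.1 (Nat.eq_one_of_dvd_coprimes
    (Nat.coprime_two_left.2 (kern_odd hk)) h2 dvd_rfl)

variable (hR : Rot P N σ)

include hR in
theorem mem_kern_of_odd {x : G} (hx : x ∈ centralizer ({σ ^ (N / 2)} : Set G))
    (ho : Odd (orderOf x)) : x ∈ kern σ N :=
  ⟨⟨x, hx⟩, mem_core_of_odd hR.complement_half.1 (by rwa [← Subgroup.orderOf_coe]), rfl⟩

include hR in
/-- The coset representative in `P` is unique. -/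
theorem coset_unique {p q : G} (hp : p ∈ (P : Subgroup G)) (hq : q ∈ (P : Subgroup G))
    (h : p * q⁻¹ ∈ kern σ N) : p = q := by
  obtain ⟨j, hj⟩ := P.2.exists_card_eq
  have h2 : orderOf (p * q⁻¹) ∣ 2 ^ j := hj ▸ orderOf_dvd_natCard _ (mul_mem hp (inv_mem hq))
  exact mul_inv_eq_one.1 (orderOf_eq_one_iff.1 (Nat.eq_one_of_dvd_coprimes
    ((Nat.coprime_two_right.2 (kern_odd h)).pow_right j) dvd_rfl h2))

include hR in
theorem card_centralizer_half :
    Nat.card (centralizer ({σ ^ (N / 2)} : Set G)) = Nat.card (kern σ N) * (2 * N) := by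
  haveI : Fact (Nat.Prime 2) := ⟨Nat.prime_two⟩
  obtain ⟨⟨k, hk⟩, hfac⟩ := hR.complement_half
  rw [kern, Subgroup.card_map_of_injective Subtype.val_injective, ← hfac]
  set C := centralizer ({σ ^ (N / 2)} : Set G)
  have hK : ¬ 2 ∣ Nat.card (Cfsg.pPrimeCore 2 C) := Cfsg.Agent.Lib.Cores.not_dvd_card_pPrimeCore 2
  have : (Nat.card C).factorization 2 = k := by
    rw [← (Cfsg.pPrimeCore 2 C).card_mul_index, hk,
      Nat.factorization_mul Nat.card_pos.ne' (pow_ne_zero _ two_ne_zero), Finsupp.add_apply,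
      Nat.factorization_eq_zero_of_not_dvd hK, Nat.prime_two.factorization_pow,
      Finsupp.single_eq_same, zero_add]
  rw [this, ← hk, Subgroup.card_mul_index]

include hR in
theorem exists_coset {x : G} (hx : x ∈ centralizer ({σ ^ (N / 2)} : Set G)) :
    ∃ p ∈ (P : Subgroup G), x * p⁻¹ ∈ kern σ N := by
  classical
  set C := centralizer ({σ ^ (N / 2)} : Set G)
  let f : ↥(kern σ N) × ↥(P : Subgroup G) → ↥C := fun a =>
    ⟨a.1 * a.2, mul_mem (kern_le a.1.2) (hR.le_centralizer_half a.2.2)⟩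
  have hf : Function.Bijective f := by
    refine (Nat.bijective_iff_injective_and_card f).2 ⟨fun a b e => ?_, ?_⟩
    · have e' : (a.1 : G) * a.2 = b.1 * b.2 := congrArg Subtype.val e
      have hk : (a.2 : G) * (b.2 : G)⁻¹ ∈ kern σ N := by
        have : (a.2 : G) * (b.2 : G)⁻¹ = (a.1 : G)⁻¹ * b.1 := by
          calc (a.2 : G) * (b.2 : G)⁻¹ = (a.1 : G)⁻¹ * (a.1 * a.2) * (b.2 : G)⁻¹ := by group
            _ = _ := by rw [e']; group
        rw [this]
        exact mul_mem (inv_mem a.1.2) b.1.2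
      have h2 := coset_unique hR a.2.2 b.2.2 hk
      rw [h2] at e'
      exact Prod.ext (Subtype.ext (mul_right_cancel e')) (Subtype.ext h2)
    · rw [Nat.card_prod, hR.card, card_centralizer_half hR]
  obtain ⟨⟨k, p⟩, e⟩ := hf.2 ⟨x, hx⟩
  refine ⟨p, p.2, ?_⟩
  rw [← show (k : G) * p = x from congrArg Subtype.val e, mul_inv_cancel_right]
  exact k.2

theorem coset_mul {x y p q : G} (hp : p ∈ centralizer ({σ ^ (N / 2)} : Set G))
    (hx : x * p⁻¹ ∈ kern σ N) (hy : y * q⁻¹ ∈ kern σ N) : x * y * (p * q)⁻¹ ∈ kern σ N := by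
  have := mul_mem hx (kern_conj hp hy)
  simpa [mul_assoc] using this

theorem coset_conj {x p v : G} (hp : p ∈ centralizer ({σ ^ (N / 2)} : Set G))
    (hv : v ∈ kern σ N) (hx : x * p⁻¹ ∈ kern σ N) : v * x * v⁻¹ * p⁻¹ ∈ kern σ N := by
  have := mul_mem (mul_mem hv hx) (kern_conj hp (inv_mem hv))
  simpa [mul_assoc] using this

include hR in
/-- An element of a coset of the odd core is conjugate into `g` times the centraliser of `g`. -/
theorem exists_conj_coset {g k : G} (hg : g ∈ (P : Subgroup G)) (hk : k ∈ kern σ N) :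
    ∃ v ∈ kern σ N, ∃ u ∈ kern σ N, Commute g u ∧ v * (g * k) * v⁻¹ = g * u := by
  haveI : Fact (Nat.Prime 2) := ⟨Nat.prime_two⟩
  set C := centralizer ({σ ^ (N / 2)} : Set G)
  have hgC := hR.le_centralizer_half hg
  have hwC : g * k ∈ C := mul_mem hgC (kern_le hk)
  obtain ⟨s, hs⟩ := Cfsg.Agent.Lib.Blocks.exists_isPPart Nat.prime_two (g * k)
  have hsC : s ∈ C := (Subgroup.zpowers_le.2 hwC)
    (Cfsg.Agent.Lib.BrauerMap.PrincipalSection.isPPart_mem_zpowers Nat.prime_two hs)
  obtain ⟨u, hsu, hcomm, ⟨a, ha⟩, hu⟩ := hs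
  have huK : u ∈ kern σ N := mem_kern_of_odd hR (by
    rw [show u = s⁻¹ * (g * k) by rw [← hsu, inv_mul_cancel_left]]
    exact mul_mem (inv_mem hsC) hwC) (Nat.odd_iff.2 (Nat.two_dvd_ne_zero.1 hu))
  have hsg : s * g⁻¹ ∈ kern σ N := by
    rw [show s = g * k * u⁻¹ by rw [← hsu, mul_inv_cancel_right]]
    have := kern_conj hgC (mul_mem hk (inv_mem huK))
    simpa [mul_assoc] using this
  obtain ⟨c, hc⟩ := exists_conj_le
    (A := zpowers (⟨s, hsC⟩ : C)) (IsPGroup.of_card (n := a)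
      (by rw [Nat.card_zpowers, Subgroup.orderOf_mk, ha])) (P.subtype hR.le_centralizer_half)
  have hc' := hc _ (mem_zpowers _)
  rw [Sylow.coe_subtype, Subgroup.mem_subgroupOf] at hc'
  change (c : G) * s * (c : G)⁻¹ ∈ (P : Subgroup G) at hc'
  obtain ⟨q, hq, hcq⟩ := exists_coset hR c.2
  have hqC := hR.le_centralizer_half hq
  have hv : q⁻¹ * (c : G) ∈ kern σ N := by
    have := kern_conj' hqC hcq
    simpa [mul_assoc] using this
  set v := q⁻¹ * (c : G) with hvdef
  have hvs : v * s * v⁻¹ ∈ (P : Subgroup G) := by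
    have := mul_mem (mul_mem (inv_mem hq) hc') hq
    simpa [hvdef, mul_assoc] using this
  have heq : v * s * v⁻¹ = g := coset_unique hR hvs hg (coset_conj hgC hv hsg)
  refine ⟨v, hv, v * u * v⁻¹, mul_mem (mul_mem hv huK) (inv_mem hv), ?_, ?_⟩
  · rw [← heq]
    show v * s * v⁻¹ * (v * u * v⁻¹) = v * u * v⁻¹ * (v * s * v⁻¹)
    calc _ = v * (s * u) * v⁻¹ := by group
      _ = v * (u * s) * v⁻¹ := by rw [hcomm.eq]
      _ = _ := by group
  · rw [← hsu, ← heq]
    group

variable (M : Ideal Cfsg.AlgInt) (hM : Cfsg.IsPModular 2 M)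

include hR hM in
/-- Constancy on a coset of the odd core. -/
theorem apply_coset {g k : G} (hg : g ∈ (P : Subgroup G)) (hgo : ∃ i : ℕ, orderOf g = 2 ^ i)
    (hg1 : g ≠ 1) (hidx : ∃ i : ℕ, (Cfsg.pPrimeCore 2 ↥(centralizer ({g} : Set G))).index = 2 ^ i)
    (hk : k ∈ kern σ N) {χ : Cfsg.IrrCharacter G} (hχ : χ ∈ Cfsg.principalBlock M G) :
    (χ : G → ℂ) (g * k) = (χ : G → ℂ) g := by
  obtain ⟨v, -, u, hu, hcu, he⟩ := exists_conj_coset hR hg hk
  rw [← value_const M hM hgo hg1 hidx hcu (kern_odd hu) hχ, ← he]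
  exact classFunction_apply_of_isConj (isClassFunction_irr χ) (isConj_iff.2 ⟨v, rfl⟩)

include hR hM in
/-- Outside the principal block the sum over a coset of the odd core vanishes. -/
theorem sum_coset_eq_zero [Fintype (Cfsg.IrrCharacter G)] [Fintype ↥(kern σ N)] {g : G}
    (hg : g ∈ (P : Subgroup G)) (hgo : ∃ i : ℕ, orderOf g = 2 ^ i) (hg1 : g ≠ 1)
    (hidx : ∃ i : ℕ, (Cfsg.pPrimeCore 2 ↥(centralizer ({g} : Set G))).index = 2 ^ i)
    {e : ℕ} (he : ∀ k ∈ kern σ N, (g * k) ^ e = σ ^ (N / 2))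
    (hsum : ∑ᶠ χ ∈ Cfsg.principalBlock M G, (χ : G → ℂ) g * conj ((χ : G → ℂ) g) =
      (Nat.card {q : G // q ∈ (P : Subgroup G) ∧ q * g = g * q} : ℂ))
    {χ : Cfsg.IrrCharacter G} (hχ : χ ∉ Cfsg.principalBlock M G) :
    ∑ k : ↥(kern σ N), (χ : G → ℂ) (g * k) = 0 := by
  classical
  haveI := Fintype.ofFinite G
  set K := kern σ N
  set d := Nat.card {q : G // q ∈ (P : Subgroup G) ∧ q * g = g * q}
  have hgC := hR.le_centralizer_half hg
  have hrow : ∀ k : K, ∑ k' : K, (if IsConj (g * (k : G)) (g * (k' : G))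
      then (Nat.card (centralizer ({g * (k : G)} : Set G)) : ℂ) else 0) =
      ((Nat.card K * d : ℕ) : ℂ) := by
    intro k
    have h1 : ∀ k' : K, (if IsConj (g * (k : G)) (g * (k' : G))
        then (Nat.card (centralizer ({g * (k : G)} : Set G)) : ℂ) else 0) =
        (Nat.card {c : G // c * (g * (k : G)) * c⁻¹ = g * (k' : G)} : ℂ) := by
      intro k'
      split_ifs with hc
      · obtain ⟨c, hc⟩ := isConj_iff.1 hc
        refine Nat.cast_inj.2 (Nat.card_congr
          { toFun := fun z => ⟨c * z.1, ?_⟩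
            invFun := fun w => ⟨c⁻¹ * w.1, ?_⟩
            left_inv := fun z => Subtype.ext (inv_mul_cancel_left _ _)
            right_inv := fun w => Subtype.ext (mul_inv_cancel_left _ _) })
        · calc c * z.1 * (g * (k : G)) * (c * z.1)⁻¹ = c * (z.1 * (g * (k : G))) * z.1⁻¹ * c⁻¹ := by group
            _ = c * ((g * (k : G)) * z.1) * z.1⁻¹ * c⁻¹ := by rw [mem_centralizer_singleton_iff.1 z.2]
            _ = g * (k' : G) := by rw [← hc]; group
        · rw [mem_centralizer_singleton_iff]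
          calc c⁻¹ * w.1 * (g * (k : G)) = c⁻¹ * (w.1 * (g * (k : G)) * w.1⁻¹) * w.1 := by group
            _ = c⁻¹ * (c * (g * (k : G)) * c⁻¹) * w.1 := by rw [w.2, hc]
            _ = _ := by group
      · rw [eq_comm, Nat.cast_eq_zero]
        haveI : IsEmpty {c : G // c * (g * (k : G)) * c⁻¹ = g * (k' : G)} :=
          ⟨fun c => hc (isConj_iff.2 ⟨c.1, c.2⟩)⟩
        exact Nat.card_of_isEmpty
    simp only [h1]
    rw [← Nat.cast_sum, Nat.cast_inj, ← Nat.card_sigma, show Nat.card K * d =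
      Nat.card (K × {q : G // q ∈ (P : Subgroup G) ∧ q * g = g * q}) from (Nat.card_prod _ _).symm]
    symm
    refine Nat.card_congr (Equiv.ofBijective (fun a =>
      ⟨⟨g⁻¹ * ((a.1 : G) * (a.2 : G) * (g * (k : G)) * ((a.1 : G) * (a.2 : G))⁻¹), ?_⟩,
        (a.1 : G) * (a.2 : G), (mul_inv_cancel_left g _).symm⟩) ⟨?_, ?_⟩)
    · have hq := a.2.2
      have hqC := hR.le_centralizer_half hq.1
      have h2 : (a.2 : G) * (g * (k : G)) * (a.2 : G)⁻¹ * g⁻¹ ∈ K := by
        have : (a.2 : G) * (g * (k : G)) * (a.2 : G)⁻¹ * g⁻¹ =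
            ((a.2 : G) * g) * (k : G) * ((a.2 : G) * g)⁻¹ := by
          calc (a.2 : G) * (g * (k : G)) * (a.2 : G)⁻¹ * g⁻¹
              = (a.2 : G) * g * (k : G) * (g * (a.2 : G))⁻¹ := by group
            _ = _ := by rw [← hq.2]
        rw [this]
        exact kern_conj (mul_mem hqC hgC) k.2
      have h3 := coset_conj hgC a.1.2 h2
      have h4 := kern_conj' hgC h3
      simpa [mul_assoc] using h4
    · intro a b e
      have e' : (a.1 : G) * (a.2 : G) = (b.1 : G) * (b.2 : G) :=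
        congrArg (fun z : (k' : K) × {c : G // c * (g * (k : G)) * c⁻¹ = g * (k' : G)} => z.2.1) e
      have hk : (a.2 : G) * (b.2 : G)⁻¹ ∈ K := by
        have : (a.2 : G) * (b.2 : G)⁻¹ = (a.1 : G)⁻¹ * b.1 := by
          calc (a.2 : G) * (b.2 : G)⁻¹ = (a.1 : G)⁻¹ * (a.1 * a.2) * (b.2 : G)⁻¹ := by group
            _ = _ := by rw [e']; group
        rw [this]
        exact mul_mem (inv_mem a.1.2) b.1.2
      have h2 := coset_unique hR a.2.2.1 b.2.2.1 hk
      rw [h2] at e'
      exact Prod.ext (Subtype.ext (mul_right_cancel e')) (Subtype.ext h2)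
    · rintro ⟨k', c, hc⟩
      have hcC : c ∈ centralizer ({σ ^ (N / 2)} : Set G) := by
        have h := congrArg (fun z => z ^ e) hc
        simp only [conj_pow, he k k.2, he k' k'.2] at h
        exact mem_centralizer_singleton_iff.2 (mul_inv_eq_iff_eq_mul.1 h)
      obtain ⟨q, hq, hcq⟩ := exists_coset hR hcC
      have hqC := hR.le_centralizer_half hq
      have hqg : q * g = g * q := by
        have hw : g * (k : G) * g⁻¹ ∈ K := kern_conj hgC k.2
        have h1 := coset_mul hqC hcq hw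
        have h2 : c⁻¹ * q ∈ K := by
          have := kern_conj' hqC (inv_mem hcq)
          simpa [mul_assoc] using this
        have h3 := coset_mul (p := q * g) (q := q⁻¹) (y := c⁻¹) (mul_mem hqC hgC) h1 (by rwa [inv_inv])
        rw [hc] at h3
        have h4 : g * (q * g * q⁻¹)⁻¹ ∈ K := by
          have := mul_mem (inv_mem (kern_conj hgC k'.2)) h3
          simpa [mul_assoc] using this
        exact eq_mul_inv_iff_mul_eq.1 (coset_unique hR hg
          (mul_mem (mul_mem hq hg) (inv_mem hq)) h4) |>.symm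
      refine ⟨(⟨c * q⁻¹, hcq⟩, ⟨q, hq, hqg⟩), ?_⟩
      refine Sigma.subtype_ext (Subtype.ext ?_) (inv_mul_cancel_right c q)
      show g⁻¹ * (c * q⁻¹ * q * (g * (k : G)) * (c * q⁻¹ * q)⁻¹) = (k' : G)
      rw [inv_mul_cancel_right, hc, inv_mul_cancel_left]
  have htot : ∑ ξ : Cfsg.IrrCharacter G, (∑ k : K, (ξ : G → ℂ) (g * k)) *
      conj (∑ k : K, (ξ : G → ℂ) (g * k)) = ((Nat.card K * (Nat.card K * d) : ℕ) : ℂ) := by
    simp only [map_sum, Finset.sum_mul, Finset.mul_sum]
    rw [Finset.sum_comm]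
    simp only [Finset.sum_comm (s := (Finset.univ : Finset (Cfsg.IrrCharacter G))), sum_irr_mul_conj]
    rw [Finset.sum_comm]
    refine (Finset.sum_congr rfl fun k _ => (by convert hrow k)).trans ?_
    rw [Finset.sum_const, nsmul_eq_mul, Finset.card_univ, ← Nat.card_eq_fintype_card]
    push_cast
    ring
  set B := (Set.toFinite (Cfsg.principalBlock M G)).toFinset
  have hB : ∑ ξ ∈ B, (∑ k : K, (ξ : G → ℂ) (g * k)) * conj (∑ k : K, (ξ : G → ℂ) (g * k)) =
      ((Nat.card K * (Nat.card K * d) : ℕ) : ℂ) := by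
    rw [finsum_mem_eq_finite_toFinset_sum _ (Set.toFinite _)] at hsum
    push_cast
    rw [← hsum, Finset.mul_sum, Finset.mul_sum]
    refine Finset.sum_congr rfl fun ξ hξ => ?_
    rw [Finset.sum_congr rfl fun (k : K) _ =>
      apply_coset hR M hM hg hgo hg1 hidx k.2 ((Set.Finite.mem_toFinset _).1 hξ), Finset.sum_const,
      nsmul_eq_mul, Finset.card_univ, ← Nat.card_eq_fintype_card, map_mul, map_natCast]
    ring
  have hrest : ∑ ξ ∈ Finset.univ \ B, (∑ k : K, (ξ : G → ℂ) (g * k)) *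
      conj (∑ k : K, (ξ : G → ℂ) (g * k)) = 0 := by
    rw [Finset.sum_sdiff_eq_sub (Finset.subset_univ B), htot, hB, sub_self]
  simp only [Complex.mul_conj] at hrest
  rw [← Complex.ofReal_sum, Complex.ofReal_eq_zero,
    Finset.sum_eq_zero_iff_of_nonneg (fun χ _ => Complex.normSq_nonneg _)] at hrest
  convert Complex.normSq_eq_zero.1 (hrest χ (Finset.mem_sdiff.2
    ⟨Finset.mem_univ χ, fun e => hχ ((Set.Finite.mem_toFinset _).1 e)⟩))

/-- The involutions (and possibly one) of a coset of the odd core. -/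
noncomputable def invs [Fintype G] (σ : G) (N : ℕ) (p : G) : Finset G :=
  Finset.univ.filter fun i => i * i = 1 ∧ i * p⁻¹ ∈ kern σ N

variable [Fintype G]

theorem mem_invs {p i : G} : i ∈ invs σ N p ↔ i * i = 1 ∧ i * p⁻¹ ∈ kern σ N := by simp [invs]

theorem card_invs_conj {p s : G} (hs : s ∈ centralizer ({σ ^ (N / 2)} : Set G)) :
    (invs σ N (s * p * s⁻¹)).card = (invs σ N p).card := by
  refine Finset.card_nbij' (fun i => s⁻¹ * i * s) (fun i => s * i * s⁻¹) ?_ ?_ ?_ ?_
  · intro i hi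
    simp only [Finset.mem_coe, mem_invs] at hi ⊢
    refine ⟨by calc s⁻¹ * i * s * (s⁻¹ * i * s) = s⁻¹ * (i * i) * s := by group
                _ = 1 := by rw [hi.1]; group, ?_⟩
    have := kern_conj' hs hi.2
    simpa [mul_assoc] using this
  · intro i hi
    simp only [Finset.mem_coe, mem_invs] at hi ⊢
    refine ⟨by calc s * i * s⁻¹ * (s * i * s⁻¹) = s * (i * i) * s⁻¹ := by group
                _ = 1 := by rw [hi.1]; group, ?_⟩
    have := kern_conj hs hi.2
    simpa [mul_assoc] using this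
  · intro i _; simp [mul_assoc]
  · intro i _; simp [mul_assoc]

/-- The involutions of a coset are the conjugates of its representative. -/
theorem card_invs_mul {p : G} (hpC : p ∈ centralizer ({σ ^ (N / 2)} : Set G)) (hp2 : p * p = 1) :
    (invs σ N p).card * Nat.card {k : G // k ∈ kern σ N ∧ k * p = p * k} = Nat.card (kern σ N) := by
  haveI : Finite G := Finite.of_fintype G
  set K := kern σ N
  let f : K → G := fun k => k * p * (k : G)⁻¹
  have himg : ∀ k : K, f k ∈ invs σ N p := fun k => by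
    rw [mem_invs]
    refine ⟨by calc f k * f k = (k : G) * (p * p) * (k : G)⁻¹ := by simp only [f]; group
                _ = 1 := by rw [hp2]; group, ?_⟩
    exact coset_conj hpC k.2 (by rw [mul_inv_cancel]; exact one_mem K)
  have hfib : ∀ i ∈ invs σ N p, (Finset.univ.filter fun k : K => f k = i).card =
      Nat.card {k : G // k ∈ K ∧ k * p = p * k} := by
    intro i hi
    rw [mem_invs] at hi
    -- a square root in `⟨i p⁻¹⟩`
    obtain ⟨l, hl⟩ := kern_odd hi.2
    set k0 := i * p⁻¹ with hk0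
    set w := k0 ^ (l + 1) with hw
    have hpi : p⁻¹ = p := inv_eq_of_mul_eq_one_right hp2
    have hinv : p * k0 * p⁻¹ = k0⁻¹ := by
      rw [hk0, mul_inv_rev, inv_inv, inv_eq_of_mul_eq_one_right hi.1, hpi,
        show p * (i * p) * p = p * i * (p * p) by group, hp2, mul_one]
    have hww : w * w = k0 := by
      rw [hw, ← pow_add, show l + 1 + (l + 1) = orderOf k0 + 1 by omega, pow_succ, pow_orderOf_eq_one,
        one_mul]
    have hpw : p * w * p⁻¹ = w⁻¹ := by rw [hw, ← conj_pow, hinv, inv_pow]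
    have hwi : w * p * w⁻¹ = i := by
      have : p * w⁻¹ = w * p := by
        have h := congrArg (fun z => z⁻¹) hpw
        simp only [mul_inv_rev, inv_inv] at h
        calc p * w⁻¹ = p * w⁻¹ * p⁻¹ * p := by group
          _ = w * p := by rw [show p * w⁻¹ * p⁻¹ = w from by rw [mul_assoc]; exact h]
      rw [mul_assoc, this, ← mul_assoc, hww, hk0, inv_mul_cancel_right]
    have hwK : w ∈ K := pow_mem hi.2 _
    rw [← Fintype.card_subtype, ← Nat.card_eq_fintype_card]
    refine Nat.card_congr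
      { toFun := fun k => ⟨w⁻¹ * (k.1 : G), mul_mem (inv_mem hwK) k.1.2, ?_⟩
        invFun := fun k => ⟨⟨w * k.1, mul_mem hwK k.2.1⟩, ?_⟩
        left_inv := fun k => Subtype.ext (Subtype.ext (mul_inv_cancel_left _ _))
        right_inv := fun k => Subtype.ext (inv_mul_cancel_left _ _) }
    · have h : (k.1 : G) * p * (k.1 : G)⁻¹ = w * p * w⁻¹ := k.2.trans hwi.symm
      calc w⁻¹ * (k.1 : G) * p = w⁻¹ * ((k.1 : G) * p * (k.1 : G)⁻¹) * (k.1 : G) := by group
        _ = _ := by rw [h]; group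
    · show w * k.1 * p * (w * k.1)⁻¹ = i
      rw [← hwi]
      calc w * k.1 * p * (w * k.1)⁻¹ = w * (k.1 * p) * k.1⁻¹ * w⁻¹ := by group
        _ = w * (p * k.1) * k.1⁻¹ * w⁻¹ := by rw [k.2.2]
        _ = _ := by group
  rw [Nat.card_eq_fintype_card (α := K), ← Finset.card_univ,
    Finset.card_eq_sum_card_fiberwise (s := (Finset.univ : Finset K)) (f := f) (t := invs σ N p)
      (fun k _ => himg k), Finset.sum_congr rfl hfib, Finset.sum_const, smul_eq_mul]

include hR in
/-- The reflections. -/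
theorem mem_refl_cases {p : G} (hp : p ∈ (P : Subgroup G)) (hp2 : p * p = 1) :
    p = 1 ∨ p = σ ^ (N / 2) ∨ p ∉ zpowers σ := by
  by_cases hz : p ∈ zpowers σ
  · by_cases h1 : p = 1
    · exact Or.inl h1
    · exact Or.inr (Or.inl (hR.eq_half hz h1 hp2))
  · exact Or.inr (Or.inr hz)

include hR in
/-- The centraliser of the central involution and a reflection. -/
theorem card_invs_refl {p : G} (hp : p ∈ (P : Subgroup G)) (hpz : p ∉ zpowers σ) :
    Nat.card (centralizer ({σ ^ (N / 2), p} : Set G)) * (invs σ N p).card =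
      4 * Nat.card (kern σ N) := by
  haveI : Finite G := Finite.of_fintype G
  have hp2 := (hR.inverts p hp hpz).1
  have hpi : p⁻¹ = p := inv_eq_of_mul_eq_one_right hp2
  have hpC := hR.le_centralizer_half hp
  set J := σ ^ (N / 2) with hJ
  have hJP : J ∈ (P : Subgroup G) := hR.zpowers_le (pow_mem (mem_zpowers σ) _)
  have hJp : J * p = p * J := (mem_centralizer_singleton_iff.1 hpC).symm
  have hJ1 : J ≠ 1 := hR.half_ne
  set S := {q : G // q ∈ (P : Subgroup G) ∧ q * p = p * q}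
  have hS : Nat.card S = 4 := by
    have hJz : J ∈ zpowers σ := pow_mem (mem_zpowers σ) _
    have hp1 : p ≠ 1 := fun e => hpz (e ▸ one_mem _)
    have hpJ : p ≠ J := fun e => hpz (e ▸ hJz)
    have hset : ({q : G | q ∈ (P : Subgroup G) ∧ q * p = p * q}) = {1, J, p, J * p} := by
      ext q
      simp only [Set.mem_setOf_eq, Set.mem_insert_iff, Set.mem_singleton_iff]
      constructor
      · rintro ⟨hq, hqp⟩
        have key : ∀ z ∈ zpowers σ, z * p = p * z → z = 1 ∨ z = J := by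
          intro z hz hzp
          by_cases hzz : z * z = 1
          · by_cases h1 : z = 1
            · exact Or.inl h1
            · exact Or.inr (hR.eq_half hz h1 hzz)
          · exact absurd (hR.centralizer_le hp hz hzz hzp.symm) hpz
        by_cases hqz : q ∈ zpowers σ
        · rcases key q hqz hqp with h | h <;> simp [h]
        · rcases key _ (hR.prod_mem q hq p hp hqz hpz) (by rw [hqp, mul_assoc, hqp]) with h | h
          · have : q = p := by rw [eq_inv_of_mul_eq_one_left h, hpi]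
            simp [this]
          · have : q = J * p := by rw [← h, mul_assoc, hp2, mul_one]
            simp [this]
      · rintro (rfl | rfl | rfl | rfl)
        · exact ⟨one_mem _, by rw [one_mul, mul_one]⟩
        · exact ⟨hJP, hJp⟩
        · exact ⟨hp, rfl⟩
        · exact ⟨mul_mem hJP hp, by rw [← mul_assoc p, ← hJp]⟩
    show Nat.card ({q : G | q ∈ (P : Subgroup G) ∧ q * p = p * q} : Set G) = 4
    rw [hset, Nat.card_coe_set_eq, Set.ncard_insert_of_notMem (by
        simp only [Set.mem_insert_iff, Set.mem_singleton_iff, not_or]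
        exact ⟨hJ1.symm, hp1.symm, fun e => hpJ ((inv_eq_of_mul_eq_one_right e.symm).symm.trans
          (inv_eq_of_mul_eq_one_right hR.half_sq))⟩),
      Set.ncard_insert_of_notMem (by
        simp only [Set.mem_insert_iff, Set.mem_singleton_iff, not_or]
        exact ⟨hpJ.symm, fun e => hp1 (left_eq_mul.1 e)⟩),
      Set.ncard_pair (fun e => hJ1 (right_eq_mul.1 e))]
  have hequiv : Nat.card ({k : G // k ∈ kern σ N ∧ k * p = p * k} × S) =
      Nat.card (centralizer ({J, p} : Set G)) := by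
    refine Nat.card_congr (Equiv.ofBijective (fun a => ⟨a.1.1 * a.2.1, ?_⟩) ⟨?_, ?_⟩)
    · rw [mem_centralizer_iff]
      simp only [Set.mem_insert_iff, Set.mem_singleton_iff, forall_eq_or_imp, forall_eq]
      refine ⟨?_, ?_⟩
      · exact (mem_centralizer_singleton_iff.1
          (mul_mem (kern_le a.1.2.1) (hR.le_centralizer_half a.2.2.1))).symm
      · calc p * (a.1.1 * a.2.1) = a.1.1 * p * a.2.1 := by rw [← mul_assoc, ← a.1.2.2]
          _ = _ := by rw [mul_assoc a.1.1 a.2.1 p, a.2.2.2, mul_assoc]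
    · intro a b e
      have e' : a.1.1 * a.2.1 = b.1.1 * b.2.1 := congrArg Subtype.val e
      have hk : a.2.1 * b.2.1⁻¹ ∈ kern σ N := by
        have : a.2.1 * b.2.1⁻¹ = a.1.1⁻¹ * b.1.1 := by
          calc a.2.1 * b.2.1⁻¹ = a.1.1⁻¹ * (a.1.1 * a.2.1) * b.2.1⁻¹ := by group
            _ = _ := by rw [e']; group
        rw [this]
        exact mul_mem (inv_mem a.1.2.1) b.1.2.1
      have h2 := coset_unique hR a.2.2.1 b.2.2.1 hk
      rw [h2] at e'
      exact Prod.ext (Subtype.ext (mul_right_cancel e')) (Subtype.ext h2)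
    · rintro ⟨x, hx⟩
      rw [mem_centralizer_iff] at hx
      have hxJ := hx J (by simp)
      have hxp := hx p (by simp)
      obtain ⟨q, hq, hxq⟩ := exists_coset hR (mem_centralizer_singleton_iff.2 hxJ.symm)
      have hqC := hR.le_centralizer_half hq
      have h1 : x * p * (q * p)⁻¹ ∈ kern σ N :=
        coset_mul hqC hxq (by rw [mul_inv_cancel]; exact one_mem _)
      have h2 : p * x * (p * q)⁻¹ ∈ kern σ N :=
        coset_mul hpC (by rw [mul_inv_cancel]; exact one_mem _) hxq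
      rw [hxp] at h2
      have hqp : q * p = p * q := by
        refine (coset_unique hR (mul_mem hp hq) (mul_mem hq hp) ?_).symm
        have := mul_mem (inv_mem h2) h1
        simpa [mul_assoc] using this
      refine ⟨(⟨x * q⁻¹, hxq, ?_⟩, ⟨q, hq, hqp⟩), Subtype.ext (inv_mul_cancel_right x q)⟩
      have hqi : q⁻¹ * p = p * q⁻¹ :=
        ((show Commute q p from hqp).inv_left).eq
      rw [mul_assoc, hqi, ← mul_assoc, ← hxp, mul_assoc]
  rw [Nat.card_prod, hS] at hequiv
  rw [← hequiv, ← card_invs_mul hpC hp2]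
  ring

include hR in
/-- Pairs of involutions with product in a coset. -/
theorem card_pairs {g : G} (hg : g ∈ zpowers σ) {e : ℕ}
    (he : ∀ k ∈ kern σ N, (g * k) ^ e = σ ^ (N / 2))
    (hrot : σ ^ (N / 2) * g⁻¹ = 1 ∨ (σ ^ (N / 2) * g⁻¹) * (σ ^ (N / 2) * g⁻¹) ≠ 1) :
    (((Finset.univ.filter fun i : G => orderOf i = 2) ×ˢ
        (Finset.univ.filter fun i : G => orderOf i = 2)).filter
      fun x : G × G => g⁻¹ * (x.1 * x.2)⁻¹ ∈ kern σ N).card =
      ∑ p ∈ Finset.univ.filter (fun p : G => p ∈ (P : Subgroup G) ∧ p ∉ zpowers σ),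
        (invs σ N p).card * (invs σ N (p * g⁻¹)).card := by
  haveI : Finite G := Finite.of_fintype G
  set C := centralizer ({σ ^ (N / 2)} : Set G)
  have hgP := hR.zpowers_le hg
  have hgC := hR.le_centralizer_half hgP
  have hord : ∀ {i : G}, orderOf i = 2 → i * i = 1 ∧ i ≠ 1 := fun {i} h =>
    ⟨by rw [← pow_two, ← h, pow_orderOf_eq_one], fun e => by rw [e, orderOf_one] at h; norm_num at h⟩
  have hord' : ∀ {i : G}, i * i = 1 → i ≠ 1 → orderOf i = 2 := fun h h1 =>
    orderOf_eq_prime (by rw [pow_two]; exact h) h1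
  let rep : G → G := fun i => if h : i ∈ C then (exists_coset hR h).choose else 1
  have hrep : ∀ i ∈ C, rep i ∈ (P : Subgroup G) ∧ i * (rep i)⁻¹ ∈ kern σ N := fun i hi => by
    simp only [rep, dif_pos hi]
    exact (exists_coset hR hi).choose_spec
  have hrep' : ∀ {i p : G}, p ∈ (P : Subgroup G) → i * p⁻¹ ∈ kern σ N → i ∈ C ∧ rep i = p := by
    intro i p hp hi
    have hiC : i ∈ C := by simpa using mul_mem (kern_le hi) (hR.le_centralizer_half hp)
    obtain ⟨h1, h2⟩ := hrep i hiC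
    exact ⟨hiC, coset_unique hR h1 hp (by simpa [mul_assoc] using mul_mem (inv_mem h2) hi)⟩
  have hinC : ∀ {i j : G}, i * i = 1 → j * j = 1 → g⁻¹ * (i * j)⁻¹ ∈ kern σ N → i ∈ C := by
    intro i j hi hj hk
    have hii := inv_eq_of_mul_eq_one_right hi
    have hjj := inv_eq_of_mul_eq_one_right hj
    have hw : g * (g⁻¹ * (i * j)⁻¹) = j * i := by rw [mul_inv_cancel_left, mul_inv_rev, hii, hjj]
    have hconj : i * (j * i) * i⁻¹ = (j * i)⁻¹ := by
      rw [mul_inv_rev, hii, hjj]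
      calc i * (j * i) * i = i * j * (i * i) := by group
        _ = i * j := by rw [hi, mul_one]
    have h1 := congrArg (fun z => z ^ e) hconj
    simp only [conj_pow, inv_pow] at h1
    rw [← hw, he _ hk, inv_eq_of_mul_eq_one_right hR.half_sq] at h1
    exact mem_centralizer_singleton_iff.2 (mul_inv_eq_iff_eq_mul.1 h1)
  set T := ((Finset.univ.filter fun i : G => orderOf i = 2) ×ˢ
        (Finset.univ.filter fun i : G => orderOf i = 2)).filter
      fun x : G × G => g⁻¹ * (x.1 * x.2)⁻¹ ∈ kern σ N with hT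
  have hmemT : ∀ x : G × G, x ∈ T ↔ orderOf x.1 = 2 ∧ orderOf x.2 = 2 ∧
      g⁻¹ * (x.1 * x.2)⁻¹ ∈ kern σ N := fun x => by simp [hT, and_assoc]
  have hmain : ∀ x ∈ T, ∃ p, p ∈ (P : Subgroup G) ∧ p ∉ zpowers σ ∧ rep x.1 = p ∧
      x.1 * p⁻¹ ∈ kern σ N ∧ x.2 * (p * g⁻¹)⁻¹ ∈ kern σ N := by
    intro x hx
    obtain ⟨h1, h2, hk⟩ := (hmemT x).1 hx
    obtain ⟨i2, i1⟩ := hord h1
    obtain ⟨j2, j1⟩ := hord h2
    have hiC := hinC i2 j2 hk
    obtain ⟨hpP, hip⟩ := hrep _ hiC
    set p := rep x.1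
    have hjC : x.2 ∈ C := by
      have h3 := mul_mem hgC (kern_le hk)
      rw [mul_inv_cancel_left] at h3
      have h4 := mul_mem (inv_mem hiC) (inv_mem h3)
      rwa [inv_inv, inv_mul_cancel_left] at h4
    obtain ⟨q, hqP, hjq⟩ := exists_coset hR hjC
    have hpC := hR.le_centralizer_half hpP
    have hqC := hR.le_centralizer_half hqP
    have hp2 : p * p = 1 := by
      have := coset_mul hpC hip hip
      rw [i2, one_mul] at this
      exact coset_unique hR (mul_mem hpP hpP) (one_mem _) (by simpa using inv_mem this)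
    have hpi : p⁻¹ = p := inv_eq_of_mul_eq_one_right hp2
    have hpq : p * q = g⁻¹ := by
      have h3 := coset_mul hpC hip hjq
      have h4 := kern_conj hgC (mul_mem hk h3)
      refine (coset_unique hR (inv_mem hgP) (mul_mem hpP hqP) ?_).symm
      have h5 : g⁻¹ * (p * q)⁻¹ = g⁻¹ * (x.1 * x.2)⁻¹ * (x.1 * x.2 * (p * q)⁻¹) := by group
      rw [h5]
      exact mul_mem hk h3
    have hqe : q = p * g⁻¹ := by rw [← hpq, ← mul_assoc, hp2, one_mul]
    refine ⟨p, hpP, ?_, rfl, hip, hqe ▸ hjq⟩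
    rcases mem_refl_cases hR hpP hp2 with e | e | e
    · rw [e, inv_one, mul_one] at hip
      exact absurd (kern_sq hip i2) i1
    · exfalso
      rw [hqe, e] at hjq
      rcases hrot with hr | hr
      · rw [hr, inv_one, mul_one] at hjq
        exact j1 (kern_sq hjq j2)
      · refine hr ?_
        have hqC' : σ ^ (N / 2) * g⁻¹ ∈ C := by rw [← e, ← hqe]; exact hqC
        have := coset_mul hqC' hjq hjq
        rw [j2, one_mul] at this
        have hP' : σ ^ (N / 2) * g⁻¹ ∈ (P : Subgroup G) := by rw [← e, ← hqe]; exact hqP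
        exact coset_unique hR (mul_mem hP' hP') (one_mem _) (by simpa using inv_mem this)
    · exact e
  rw [Finset.card_eq_sum_card_fiberwise (s := T) (f := fun x => rep x.1)
    (t := Finset.univ.filter (fun p : G => p ∈ (P : Subgroup G) ∧ p ∉ zpowers σ))]
  · refine Finset.sum_congr rfl fun p hp => ?_
    obtain ⟨hpP, hpz⟩ : p ∈ (P : Subgroup G) ∧ p ∉ zpowers σ := by simpa using hp
    rw [← Finset.card_product]
    congr 1
    ext x
    simp only [Finset.mem_filter, Finset.mem_product, mem_invs]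
    constructor
    · rintro ⟨hx, hr⟩
      obtain ⟨p', -, -, hp', a, b⟩ := hmain x hx
      obtain ⟨h1, h2, -⟩ := (hmemT x).1 hx
      rw [← hp', hr] at a b
      exact ⟨⟨(hord h1).1, a⟩, (hord h2).1, b⟩
    · rintro ⟨⟨i2, hi⟩, j2, hj⟩
      have hq : p * g⁻¹ ∉ zpowers σ := fun h => hpz (by simpa using mul_mem h hg)
      have hne : ∀ {i q : G}, q ∉ zpowers σ → q ∈ (P : Subgroup G) → i * q⁻¹ ∈ kern σ N → i ≠ 1 := by
        intro i q hq hqP h e
        rw [e] at h
        exact hq ((coset_unique hR (one_mem _) hqP h) ▸ one_mem _)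
      refine ⟨(hmemT x).2 ⟨hord' i2 (hne hpz hpP hi),
        hord' j2 (hne hq (mul_mem hpP (inv_mem hgP)) hj), ?_⟩, (hrep' hpP hi).2⟩
      have h3 := coset_mul (hR.le_centralizer_half hpP) hi hj
      rw [← mul_assoc, (hR.inverts p hpP hpz).1, one_mul, inv_inv] at h3
      simpa [mul_assoc] using inv_mem h3
  · intro x hx
    obtain ⟨p, hp, hpz, he', -, -⟩ := hmain x hx
    show rep x.1 ∈ _
    simp [he', hp, hpz]

include hR hM in
/-- The class algebra identity on a coset of the odd core. -/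
theorem counting [Fintype (Cfsg.IrrCharacter G)] {g : G} (hg : g ∈ zpowers σ)
    (hg1 : g ≠ 1) (hidx : ∃ i : ℕ, (Cfsg.pPrimeCore 2 ↥(centralizer ({g} : Set G))).index = 2 ^ i)
    {e : ℕ} (he : ∀ k ∈ kern σ N, (g * k) ^ e = σ ^ (N / 2))
    (hrot : σ ^ (N / 2) * g⁻¹ = 1 ∨ (σ ^ (N / 2) * g⁻¹) * (σ ^ (N / 2) * g⁻¹) ≠ 1)
    (hsum : ∑ᶠ χ ∈ Cfsg.principalBlock M G, (χ : G → ℂ) g * conj ((χ : G → ℂ) g) =
      (Nat.card {q : G // q ∈ (P : Subgroup G) ∧ q * g = g * q} : ℂ))
    (hone : ∀ i : G, orderOf i = 2 → IsConj (σ ^ (N / 2)) i) :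
    (Nat.card G : ℂ) * ((Nat.card (kern σ N) : ℂ) *
      ∑ χ ∈ (Set.toFinite (Cfsg.principalBlock M G)).toFinset,
        (χ : G → ℂ) g * (χ : G → ℂ) (σ ^ (N / 2)) ^ 2 / (χ : G → ℂ) 1) =
      (Nat.card (centralizer ({σ ^ (N / 2)} : Set G)) : ℂ) ^ 2 *
        ((∑ p ∈ Finset.univ.filter (fun p : G => p ∈ (P : Subgroup G) ∧ p ∉ zpowers σ),
          (invs σ N p).card * (invs σ N (p * g⁻¹)).card : ℕ) : ℂ) := by
  classical
  haveI : Finite G := Finite.of_fintype G
  haveI := Fintype.ofFinite ↥(kern σ N)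
  set J := σ ^ (N / 2) with hJ
  set c := Nat.card (centralizer ({J} : Set G)) with hc
  set Inv := Finset.univ.filter fun i : G => orderOf i = 2 with hInv
  have hgP := hR.zpowers_le hg
  have hord : ∀ a : G, orderOf (a * J * a⁻¹) = 2 := fun a =>
    (MulEquiv.orderOf_eq (MulAut.conj a) J).trans hR.orderOf_half
  have hfib : ∀ y ∈ Inv, (Finset.univ.filter fun a : G => a * J * a⁻¹ = y).card = c := by
    intro y hy
    obtain ⟨b, hb⟩ := isConj_iff.1 (hone y (by simpa [hInv] using hy))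
    rw [hc, ← Fintype.card_subtype, ← Nat.card_eq_fintype_card]
    refine Nat.card_congr
      { toFun := fun a => ⟨b⁻¹ * a.1, ?_⟩
        invFun := fun k => ⟨b * k.1, ?_⟩
        left_inv := fun a => Subtype.ext (mul_inv_cancel_left _ _)
        right_inv := fun k => Subtype.ext (inv_mul_cancel_left _ _) }
    · rw [Subgroup.mem_centralizer_singleton_iff]
      calc b⁻¹ * a.1 * J = b⁻¹ * (a.1 * J * a.1⁻¹) * a.1 := by group
        _ = b⁻¹ * (b * J * b⁻¹) * a.1 := by rw [a.2, hb]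
        _ = _ := by group
    · calc b * k.1 * J * (b * k.1)⁻¹ = b * (k.1 * J) * k.1⁻¹ * b⁻¹ := by group
        _ = b * (J * k.1) * k.1⁻¹ * b⁻¹ := by rw [mem_centralizer_singleton_iff.1 k.2]
        _ = b * J * b⁻¹ := by group
        _ = y := hb
  have hfsum : ∀ F : G → ℂ, ∑ a : G, F (a * J * a⁻¹) = (c : ℂ) * ∑ i ∈ Inv, F i := by
    intro F
    rw [← Finset.sum_fiberwise_of_maps_to (s := Finset.univ) (t := Inv) (g := fun a : G => a * J * a⁻¹)
      (fun a _ => by simp [hInv, hord]), Finset.mul_sum]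
    refine Finset.sum_congr rfl fun y hy => ?_
    rw [Finset.sum_congr rfl (g := fun _ => F y) fun a ha => by rw [(Finset.mem_filter.1 ha).2],
      Finset.sum_const, hfib y hy, nsmul_eq_mul]
  have hcount : ∑ a : G, ∑ b : G, ∑ k : ↥(kern σ N),
      (if g * (k : G) * (a * J * a⁻¹) * (b * J * b⁻¹) = 1 then (1 : ℂ) else 0) =
      (c : ℂ) ^ 2 * ((∑ p ∈ Finset.univ.filter (fun p : G => p ∈ (P : Subgroup G) ∧ p ∉ zpowers σ),
          (invs σ N p).card * (invs σ N (p * g⁻¹)).card : ℕ) : ℂ) := by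
    rw [← card_pairs hR hg he hrot]
    have hk : ∀ i j : G, ∑ k : ↥(kern σ N), (if g * (k : G) * i * j = 1 then (1 : ℂ) else 0) =
        if g⁻¹ * (i * j)⁻¹ ∈ kern σ N then 1 else 0 := by
      intro i j
      have hiff : ∀ k : G, g * k * i * j = 1 ↔ k = g⁻¹ * (i * j)⁻¹ := fun k => by
        rw [mul_assoc (g * k), mul_eq_one_iff_eq_inv, eq_inv_mul_iff_mul_eq]
      by_cases hm : g⁻¹ * (i * j)⁻¹ ∈ kern σ N
      · rw [if_pos hm, Finset.sum_eq_single ⟨_, hm⟩]
        · rw [if_pos ((hiff _).2 rfl)]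
        · exact fun k _ hk => if_neg fun e => hk (Subtype.ext ((hiff _).1 e))
        · exact fun h => absurd (Finset.mem_univ _) h
      · rw [if_neg hm]
        exact Finset.sum_eq_zero fun k _ => if_neg fun e => hm ((hiff _).1 e ▸ k.2)
    simp only [hk]
    rw [hfsum (fun i => ∑ b : G, if g⁻¹ * (i * (b * J * b⁻¹))⁻¹ ∈ kern σ N then (1 : ℂ) else 0),
      Finset.sum_congr rfl fun i _ => hfsum (fun j => if g⁻¹ * (i * j)⁻¹ ∈ kern σ N then (1 : ℂ) else 0),
      ← Finset.mul_sum, ← Finset.sum_product', Finset.sum_boole]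
    ring
  have hG : (Nat.card G : ℂ) ≠ 0 := Nat.cast_ne_zero.2 Nat.card_pos.ne'
  have hone' : ∀ (χ : Cfsg.IrrCharacter G) (x : G),
      ∑ a : G, ∑ b : G, (χ : G → ℂ) (x * (a * J * a⁻¹) * (b * J * b⁻¹)) =
      (Nat.card G : ℂ) ^ 2 * (χ : G → ℂ) x * (χ : G → ℂ) J ^ 2 / (χ : G → ℂ) 1 ^ 2 := by
    intro χ x
    have h1 := apply_one_ne_zero χ
    simp only [Cfsg.Agent.Lib.H80.ClassMult.sum_apply_mul_conj, ← Finset.sum_div, ← Finset.sum_mul,
      ← Finset.mul_sum]
    field_simp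
  rw [← hcount]
  apply mul_left_cancel₀ hG
  have hsd : ∀ x : G, (Nat.card G : ℂ) * (if x = 1 then (1 : ℂ) else 0) =
      ∑ χ : Cfsg.IrrCharacter G, (χ : G → ℂ) 1 * (χ : G → ℂ) x := fun x => by
    rw [sum_degree_mul_apply]; split_ifs <;> simp
  have hW : ∀ χ : Cfsg.IrrCharacter G, (χ ∉ (Set.toFinite (Cfsg.principalBlock M G)).toFinset) →
      ∑ k : ↥(kern σ N), (χ : G → ℂ) (g * k) = 0 := fun χ hχ =>
    sum_coset_eq_zero hR M hM hgP (hR.isPow hg) hg1 hidx he hsum
      (fun h => hχ ((Set.Finite.mem_toFinset _).2 h))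
  simp only [Finset.mul_sum, hsd]
  calc _ = ∑ χ : Cfsg.IrrCharacter G, (Nat.card G : ℂ) ^ 2 * ((χ : G → ℂ) J ^ 2 / (χ : G → ℂ) 1) *
        ∑ k : ↥(kern σ N), (χ : G → ℂ) (g * k) := by
        rw [← Finset.sum_subset (Finset.subset_univ (Set.toFinite (Cfsg.principalBlock M G)).toFinset)
          (f := fun χ : Cfsg.IrrCharacter G => (Nat.card G : ℂ) ^ 2 *
            ((χ : G → ℂ) J ^ 2 / (χ : G → ℂ) 1) * ∑ k : ↥(kern σ N), (χ : G → ℂ) (g * k))
          (fun χ _ hχ => by rw [hW χ hχ, mul_zero])]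
        refine Finset.sum_congr rfl fun χ hχ => ?_
        rw [Finset.sum_congr rfl fun (k : ↥(kern σ N)) _ => apply_coset hR M hM hgP (hR.isPow hg)
          hg1 hidx k.2 ((Set.Finite.mem_toFinset _).1 hχ), Finset.sum_const, nsmul_eq_mul,
          Finset.card_univ, ← Nat.card_eq_fintype_card]
        ring
    _ = _ := by
        conv_rhs => enter [2, a]; rw [Finset.sum_comm]
        conv_rhs => rw [Finset.sum_comm]
        conv_rhs => enter [2, k, 2, a]; rw [Finset.sum_comm]
        conv_rhs => enter [2, k]; rw [Finset.sum_comm]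
        conv_rhs => rw [Finset.sum_comm]
        refine Finset.sum_congr rfl fun χ _ => ?_
        rw [Finset.mul_sum]
        refine Finset.sum_congr rfl fun k _ => ?_
        simp only [← Finset.mul_sum, hone']
        have h1 := apply_one_ne_zero χ
        field_simp

end Cfsg.Agent.Lib.DihedralBlock.Order

namespace Cfsg.Agent.Lib.DihedralBlock.Order

open Subgroup Cfsg.Agent.Lib.DihedralBlock.Sections

variable {G : Type*} [Group G] [Finite G] {N : ℕ} {σ τ : G} {P : Sylow 2 G} (hR : Rot P N σ)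

include hR in
/-- A function invariant under `P` on the reflections depends on the parity only. -/
theorem refl_parity (hτ : τ ∈ (P : Subgroup G)) (hτz : τ ∉ zpowers σ) {β : Sort*} (Q : G → β)
    (hQ : ∀ s ∈ (P : Subgroup G), ∀ p : G, Q (s * p * s⁻¹) = Q p) (i : ℕ) :
    Q (τ * σ ^ i) = if Even i then Q τ else Q (σ * τ) := by
  have hinv := (hR.inverts τ hτ hτz).2
  have hστ : σ⁻¹ * τ = τ * σ := by
    rw [← hinv, inv_mul_cancel_right]
  have h2 : ∀ i : ℕ, Q (τ * σ ^ (i + 2)) = Q (τ * σ ^ i) := fun i => by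
    rw [← hQ σ⁻¹ (inv_mem hR.mem) (τ * σ ^ i), inv_inv, ← mul_assoc σ⁻¹, hστ, mul_assoc τ σ,
      ← pow_succ', mul_assoc τ, ← pow_succ]
  induction i using Nat.twoStepInduction with
  | zero => simp
  | one =>
    rw [if_neg (by decide), pow_one]
    have := hQ τ hτ (σ * τ)
    rw [← this]
    congr 1
    group
  | more i ih _ =>
    rw [h2, ih]
    exact if_congr (by simp [Nat.even_add_one]) rfl rfl

include hR in
/-- The reflections are `τ σ ^ i`. -/
theorem sum_refl [Fintype G] (hτ : τ ∈ (P : Subgroup G)) (hτz : τ ∉ zpowers σ) {A : Type*}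
    [AddCommMonoid A] (F : G → A) [DecidablePred fun p : G => p ∈ (P : Subgroup G) ∧ p ∉ zpowers σ] :
    ∑ p ∈ Finset.univ.filter (fun p : G => p ∈ (P : Subgroup G) ∧ p ∉ zpowers σ), F p =
      ∑ i ∈ Finset.range N, F (τ * σ ^ i) := by
  symm
  refine Finset.sum_bij (fun i _ => τ * σ ^ i) ?_ ?_ ?_ (fun i _ => rfl)
  · intro i _
    rw [Finset.mem_filter]
    refine ⟨Finset.mem_univ _, mul_mem hτ (pow_mem hR.mem i), fun h => hτz ?_⟩
    simpa using mul_mem h (inv_mem (pow_mem (mem_zpowers σ) i))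
  · intro i hi l hl e
    exact pow_injOn_Iio_orderOf (by simpa [hR.order] using hi) (by simpa [hR.order] using hl)
      (mul_left_cancel e)
  · intro p hp
    obtain ⟨-, hpP, hpz⟩ := Finset.mem_filter.1 hp
    have h := hR.prod_mem τ hτ p hpP hτz hpz
    obtain ⟨i, hi⟩ := (isOfFinOrder_of_finite σ).mem_powers_iff_mem_zpowers.2 h
    refine ⟨i % N, Finset.mem_range.2 (Nat.mod_lt _ (by have := hR.four_le; omega)), ?_⟩
    rw [← hR.order, pow_mod_orderOf, show σ ^ i = τ * p from hi, ← mul_assoc,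
      (hR.inverts τ hτ hτz).1, one_mul]

omit [Finite G] in
/-- Sums of a parity dependent function. -/
theorem sum_range_parity (m : ℕ) (a b : ℕ) :
    ∑ i ∈ Finset.range (2 * m), (if Even i then a else b) = m * (a + b) := by
  induction m with
  | zero => simp
  | succ m ih =>
    rw [show 2 * (m + 1) = 2 * m + 1 + 1 by ring, Finset.sum_range_succ, Finset.sum_range_succ, ih,
      if_pos (by simp), if_neg (by simp [Nat.even_add_one])]
    ring

end Cfsg.Agent.Lib.DihedralBlock.Order
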